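import Cfsg.Agent.Mrg.Omega.NO3S.Pt.Path
import Cfsg.Agent.Mrg.Omega.NO3S.TwoOne.Bridge


/-!
# NO-3S, `|V| = 4`: the alternative (F1') (bb OMEGA #12132, step (0), helper299)

`Fl T V z` : a flag `(z, V)` as in `CaseL.Ln` (K-free), `W_z = ws V z` abelian, and **not (F1)**: `K_z = kq V z`
centralises `V`.

* `Fl.kq_le` : `K_z = C_G(W_z)`;
* `Fl.red` : a normal subgroup `M` of `C_G(z)` which induces a 2-group on `W_z` centralises `W_z`
  (`O₂(C_G(z) / C_G(W_z)) = 1`);
* `Fl.fix` : `C_{W_z}(T) = ⟨z⟩`;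
* `Side V x y T L` : one side of a critical pair `(x, y)`: `(y, L)` is a flag with Sylow group `T`,
  `W_x ≤ O₂(C_G(L))`, `[W_x, W_y] ≤ W_x ∩ W_y` and `[W_x, W_y] ≠ 1`;
* `sides` : both sides of a critical pair; `Side.offender` : one of the two is an offender;
* `exists_cr` : there is a critical pair; `Fl.of_hyp`, `f1_of_not_cr` : the plug `NO3S.Hyp S P`, `|V_P| = 4`.
-/

set_option autoImplicit false
set_option linter.unusedSectionVars false

namespace Cfsg.Agent.Omega.FOne.Crit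

open Subgroup Cfsg Cfsg.Agent.ZN Cfsg.Agent.MinSimple.Geo Cfsg.Agent.Omega.CaseL Cfsg.Agent.Omega.NO3S.TwoOne
open Cfsg.Agent.Omega.NO3S.Pt (Col Pth Com Mn Cr conj_mem_cent)
open Cfsg.Agent.ZN.Block (conj_mem_of_normalizer conj_mem_of_normalizer' le_normalizer_of_forall
  mem_normalizer_of)

universe u

variable {G : Type u} [Group G]

/-- a flag, without (F1) -/
structure Fl (T V : Subgroup G) (z : G) : Prop where
  ln : Ln T V z
  ab : ∀ a ∈ ws V z, ∀ b ∈ ws V z, a * b = b * a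
  nf : kq V z ≤ centralizer (V : Set G)

namespace Fl

variable {T V : Subgroup G} {z : G}

theorem conj (h : Fl T V z) (g : G) : Fl (cj g T) (cj g V) (g * z * g⁻¹) where
  ln := h.ln.conj g
  ab := by
    rw [ws_cj, ← cj_ws]
    intro a ha b hb
    have := h.ab _ (mem_of_cj ha) _ (mem_of_cj hb)
    calc a * b = g * ((g⁻¹ * a * g) * (g⁻¹ * b * g)) * g⁻¹ := by group
      _ = g * ((g⁻¹ * b * g) * (g⁻¹ * a * g)) * g⁻¹ := by rw [this]
      _ = b * a := by group
  nf := by
    rw [kq_cj, ← cj_kq]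
    intro k hk
    rw [mem_centralizer_iff]
    intro v hv
    have := mem_centralizer_iff.mp (h.nf (mem_cj.mp hk)) _ (mem_cj.mp hv)
    calc v * k = g * ((g⁻¹ * v * g) * (g⁻¹ * k * g)) * g⁻¹ := by group
      _ = g * ((g⁻¹ * k * g) * (g⁻¹ * v * g)) * g⁻¹ := by rw [this]
      _ = k * v := by group

theorem point (h : Fl T V z) {p : G} (hp : p ∈ V) (hp1 : p ≠ 1) :
    ∃ g ∈ normalizer (V : Set G), g * z * g⁻¹ = p ∧ Fl (cj g T) V p := by
  obtain ⟨g, hg, rfl⟩ := h.ln.trans p hp hp1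
  refine ⟨g, hg, rfl, ?_⟩
  have := h.conj g
  rwa [cj_eq_of_mem_normalizer hg] at this

theorem flag (h : Fl T V z) {g x : G} (hx : x ∈ cj g V) (hx1 : x ≠ 1) :
    ∃ k, cj k V = cj g V ∧ k * z * k⁻¹ = x ∧ Fl (cj k T) (cj g V) x := by
  rw [mem_cj] at hx
  have hx1' : g⁻¹ * x * g ≠ 1 := fun e => hx1 (by
    have : x = g * (g⁻¹ * x * g) * g⁻¹ := by group
    rw [this, e]; group)
  obtain ⟨m, hm, hmz, hf⟩ := h.point hx hx1'
  have h1 := hf.conj g
  have e : g * (g⁻¹ * x * g) * g⁻¹ = x := by group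
  rw [e, cj_cj] at h1
  refine ⟨g * m, ?_, ?_, h1⟩
  · rw [← cj_cj, cj_eq_of_mem_normalizer hm]
  · calc g * m * z * (g * m)⁻¹ = g * (m * z * m⁻¹) * g⁻¹ := by group
      _ = x := by rw [hmz]; group

theorem exists_flag (h : Fl T V z) {x : G} (hx : Col V x x) :
    ∃ g k, x ∈ cj g V ∧ cj k V = cj g V ∧ k * z * k⁻¹ = x ∧ Fl (cj k T) (cj g V) x := by
  obtain ⟨g, h1, -, h2, -⟩ := hx
  obtain ⟨k, hk⟩ := h.flag h1 h2
  exact ⟨g, k, h1, hk⟩

theorem sqz (h : Fl T V z) : ∀ a ∈ ws V z, a * a = 1 := NO3S.TwoOne.ws_sq h.ln h.ab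

theorem z_mem_ws (h : Fl T V z) : z ∈ ws V z := h.ln.V_le_ws h.ln.z_mem

theorem C_norm (_ : Fl T V z) :
    centralizer ({z} : Set G) ≤ normalizer ((ws V z : Subgroup G) : Set G) :=
  centralizer_le_normalizer_ws V z

theorem cent_le (h : Fl T V z) : centralizer (ws V z : Set G) ≤ centralizer ({z} : Set G) := by
  intro c hc
  rw [mem_centralizer_singleton_iff]
  exact (mem_centralizer_iff.mp hc z h.z_mem_ws).symm

/-- `K_z` centralises `W_z`. -/
theorem kq_le (h : Fl T V z) : kq V z ≤ centralizer (ws V z : Set G) := by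
  intro k hk
  have h1 : ws V z ≤ centralizer ({k} : Set G) := by
    refine ws_le fun L hL => ?_
    obtain ⟨c, hc, rfl⟩ := h.ln.exists_of_mem_lines hL
    intro x hx
    rw [mem_centralizer_singleton_iff]
    have hk' : c⁻¹ * k * c ∈ kq V z := by
      have := conj_mem_kq c⁻¹ hk
      have e : c⁻¹ * z * c⁻¹⁻¹ = z := by
        rw [mul_assoc, inv_inv, ← h.ln.z_comm hc]; group
      rw [e, inv_inv] at this
      exact this
    have := mem_centralizer_iff.mp (h.nf hk') _ (mem_cj.mp hx)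
    calc x * k = c * ((c⁻¹ * x * c) * (c⁻¹ * k * c)) * c⁻¹ := by group
      _ = c * ((c⁻¹ * k * c) * (c⁻¹ * x * c)) * c⁻¹ := by rw [this]
      _ = k * x := by group
  rw [mem_centralizer_iff]
  intro w hw
  exact mem_centralizer_singleton_iff.mp (h1 hw)

theorem cent_le_kq (h : Fl T V z) : centralizer (ws V z : Set G) ≤ kq V z := by
  intro k hk
  refine ⟨h.cent_le hk, fun w hw => ?_, fun w hw => ?_⟩
  · have := mem_centralizer_iff.mp hk w hw
    rw [← this]
    simp
  · have := mem_centralizer_iff.mp (inv_mem hk) w hw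
    rw [← this]
    simp

/-- an element of `C_G(z)` which is trivial on `W_z / ⟨z⟩` is trivial on `W_z`. -/
theorem faith (h : Fl T V z) {k : G} (hk : k ∈ centralizer ({z} : Set G))
    (h1 : ∀ w ∈ ws V z, k * w * k⁻¹ * w⁻¹ ∈ zpowers z) : k ∈ centralizer (ws V z : Set G) := by
  refine h.kq_le ⟨hk, h1, fun w hw => ?_⟩
  have h2 := h1 (k⁻¹ * w * k) (conj_mem_of_normalizer' (centralizer_le_normalizer_ws V z) hk hw)
  have e : k * (k⁻¹ * w * k) * k⁻¹ * (k⁻¹ * w * k)⁻¹ = (k⁻¹ * w * k * w⁻¹)⁻¹ := by group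
  rw [e] at h2
  exact inv_mem_iff.mp h2

/-- `C_G(z) ∩ N_G(V)` acts on `V` as `⟨(v ↦ z v)⟩`. -/
theorem kq_of_forall (h : Fl T V z) {k : G}
    (hk : ∀ c ∈ centralizer ({z} : Set G), c⁻¹ * k * c ∈ centralizer ({z} : Set G) ⊓ normalizer (V : Set G)) :
    k ∈ centralizer (ws V z : Set G) := by
  have hkz : k ∈ centralizer ({z} : Set G) := by
    have := (hk 1 (one_mem _)).1
    simpa using this
  refine h.faith hkz fun w hw => ?_
  let D : Subgroup G :=
    { carrier := {w | w ∈ centralizer ({z} : Set G) ∧ k * w * k⁻¹ * w⁻¹ ∈ zpowers z}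
      one_mem' := ⟨one_mem _, by simp⟩
      mul_mem' := by
        rintro a b ⟨ha, ha1⟩ ⟨hb, hb1⟩
        refine ⟨mul_mem ha hb, ?_⟩
        have e : k * (a * b) * k⁻¹ * (a * b)⁻¹ =
            (k * a * k⁻¹ * a⁻¹) * (a * (k * b * k⁻¹ * b⁻¹) * a⁻¹) := by group
        rw [e]
        refine mul_mem ha1 ?_
        rcases (mem_zpowers_iff_of_mul_self h.ln.zz).mp hb1 with e1 | e1
        · rw [e1]; simp
        · rw [e1, h.ln.z_comm ha, mul_inv_cancel_right]; exact mem_zpowers z
      inv_mem' := by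
        rintro a ⟨ha, ha1⟩
        refine ⟨inv_mem ha, ?_⟩
        have e : k * a⁻¹ * k⁻¹ * a⁻¹⁻¹ = a⁻¹ * (k * a * k⁻¹ * a⁻¹)⁻¹ * a := by group
        rw [e]
        rcases (mem_zpowers_iff_of_mul_self h.ln.zz).mp ha1 with e1 | e1
        · rw [e1]; simp
        · rw [e1, inv_eq_self h.ln.zz]
          have e2 : a⁻¹ * z * a = z := by
            rw [mul_assoc, ← h.ln.z_comm ha, inv_mul_cancel_left]
          rw [e2]; exact mem_zpowers z }
  have hD : ws V z ≤ D := by
    refine ws_le fun L hL => ?_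
    obtain ⟨c, hc, rfl⟩ := h.ln.exists_of_mem_lines hL
    intro x hx
    rw [mem_cj] at hx
    have hxz : c⁻¹ * x * c ∈ centralizer ({z} : Set G) := h.ln.T_le (h.ln.V_le hx)
    have hx' : x ∈ centralizer ({z} : Set G) := by
      have := mul_mem (mul_mem hc hxz) (inv_mem hc)
      have e : c * (c⁻¹ * x * c) * c⁻¹ = x := by group
      rwa [e] at this
    refine ⟨hx', ?_⟩
    have h1 := hk c hc
    have e : k * x * k⁻¹ * x⁻¹ =
        c * ((c⁻¹ * k * c) * (c⁻¹ * x * c) * (c⁻¹ * k * c)⁻¹ * (c⁻¹ * x * c)⁻¹) * c⁻¹ := by group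
    rw [e]
    rcases h.ln.conj_cases h.ln.z_mem hx h.ln.z_ne (h.ln.z_comm h1.1) h1.2 with e1 | e1
    · rw [e1]; simp
    · rw [e1]
      have e2 : c * (z * (c⁻¹ * x * c) * (c⁻¹ * x * c)⁻¹) * c⁻¹ = z := by
        rw [mul_inv_cancel_right, h.ln.z_comm hc, mul_inv_cancel_right]
      rw [e2]; exact mem_zpowers z
  exact (hD hw).2

/-- **`O₂(C_G(z) / C_G(W_z)) = 1`.** -/
theorem red [Finite G] (h : Fl T V z) {M : Subgroup G} (hM : M ≤ centralizer ({z} : Set G))
    (hn : centralizer ({z} : Set G) ≤ normalizer (M : Set G)) {k : ℕ}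
    (h2 : (centralizer (ws V z : Set G)).relIndex M = 2 ^ k) : M ≤ centralizer (ws V z : Set G) := by
  have : Fact (Nat.Prime 2) := ⟨Nat.prime_two⟩
  -- a Sylow 2-subgroup of `M`
  obtain ⟨Q⟩ : Nonempty (Sylow 2 M) := inferInstance
  set Q0 : Subgroup G := (Q : Subgroup M).map M.subtype with hQ0
  have hQM : Q0 ≤ M := map_subtype_le _
  have hQ2 : IsPGroup 2 Q0 := Q.2.map _
  have hQi : ¬ 2 ∣ Q0.relIndex M := by
    have e : Q0.relIndex M = (Q : Subgroup M).index := by
      have e' : Q0.subgroupOf M = (Q : Subgroup M) := by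
        rw [hQ0]
        exact comap_map_eq_self_of_injective M.subtype_injective _
      rw [Subgroup.relIndex, e']
    rw [e]
    exact Q.not_dvd_index
  obtain ⟨c, hc, hcT⟩ := exists_cj_le_of_sylow h.ln.T_le h.ln.two h.ln.T_syl (hQM.trans hM) hQ2
  have hcM : cj c M = M := cj_eq_of_mem_normalizer (hn hc)
  have hQcM : cj c Q0 ≤ M := by
    have := cj_mono (g := c) hQM
    rwa [hcM] at this
  have hQci : ¬ 2 ∣ (cj c Q0).relIndex M := by
    have := relIndex_cj c Q0 M
    rw [hcM] at this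
    rwa [this]
  -- `M = Q^c C_M(W)`
  have hNB : M ≤ centralizer ({z} : Set G) ⊓ normalizer (V : Set G) := by
    set B : Subgroup G := centralizer ({z} : Set G) ⊓ normalizer (V : Set G) with hB
    have h3 : cj c Q0 ≤ B := hcT.trans (le_inf h.ln.T_le h.ln.T_norm)
    have h4 : centralizer (ws V z : Set G) ≤ B := by
      refine le_inf h.cent_le ?_
      exact (centralizer_le h.ln.V_le_ws).trans (centralizer_le_normalizer _)
    have h5 : B.relIndex M ∣ (cj c Q0).relIndex M := relIndex_dvd_of_le_left M h3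
    have h6 : B.relIndex M ∣ 2 ^ k := by
      rw [← h2]; exact relIndex_dvd_of_le_left M h4
    obtain ⟨j, -, hj⟩ := (Nat.dvd_prime_pow Nat.prime_two).mp h6
    have h7 : j = 0 := by
      by_contra hj0
      apply hQci
      refine dvd_trans ?_ h5
      rw [hj]
      exact dvd_pow_self 2 hj0
    rw [h7, pow_zero] at hj
    exact relIndex_eq_one.mp hj
  intro m hm
  refine h.kq_of_forall fun c hc => hNB ?_
  exact conj_mem_of_normalizer' hn hc hm

/-- `C_{W_z}(T) = ⟨z⟩`. -/
theorem fix [Finite G] (h : Fl T V z) {w : G} (hw : w ∈ ws V z) (hT : ∀ t ∈ T, t * w = w * t) :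
    w = 1 ∨ w = z := h.ln.soc w (h.ln.ws_le_T hw) (h.sqz w hw) hT

section basic

variable {x y : G}

theorem ws_comm (h : Fl T V z) (hx : Col V x x) : ∀ a ∈ ws V x, ∀ b ∈ ws V x, a * b = b * a := by
  obtain ⟨g, _, -, -, -, hf⟩ := h.exists_flag hx
  have := hf.ab
  rwa [ws_cj] at this

theorem ws_sq (h : Fl T V z) (hx : Col V x x) : ∀ a ∈ ws V x, a * a = 1 := by
  obtain ⟨g, _, -, -, -, hf⟩ := h.exists_flag hx
  have := hf.sqz
  rwa [ws_cj] at this

theorem ws_le_o2 [Finite G] (h : Fl T V z) (hx : Col V x x) : ws V x ≤ o2 (centralizer ({x} : Set G)) := by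
  obtain ⟨g, _, -, -, -, hf⟩ := h.exists_flag hx
  have := hf.ln.ws_le_o2
  rwa [ws_cj] at this

theorem ws_le_cent [Finite G] (h : Fl T V z) (hx : Col V x x) : ws V x ≤ centralizer ({x} : Set G) :=
  (h.ws_le_o2 hx).trans (o2_le _)

theorem line_le_ws (_ : Fl T V z) {g : G} (hx : x ∈ cj g V) : cj g V ≤ ws V x := le_ws ⟨⟨g, rfl⟩, hx⟩

theorem mem_ws_self (h : Fl T V z) (hx : Col V x x) : x ∈ ws V x := by
  obtain ⟨g, h1, -, -, -⟩ := hx
  exact h.line_le_ws h1 h1

theorem isPGroup_ws (h : Fl T V z) (hx : Col V x x) : IsPGroup 2 (ws V x) := by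
  intro a
  refine ⟨1, ?_⟩
  ext
  simpa [pow_two] using h.ws_sq hx a a.2

end basic

/-- (T1): at distance `< n` the group `W_x` lies in `O₂(C_G(y))` -/
theorem ws_le_o2_of_pth [Finite G] (h : Fl T V z) {n : ℕ} (hm : Mn V n) :
    ∀ k < n, ∀ x y, Pth V k x y → ws V x ≤ o2 (centralizer ({y} : Set G)) := by
  intro k
  induction k with
  | zero =>
    intro _ x y hxy
    cases hxy with
    | zero hx => exact h.ws_le_o2 hx
  | succ k ih =>
    intro hk x y hxy
    have hxy0 := hxy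
    cases hxy with
    | @step _ _ y' _ hp c =>
      have h1 := ih (by omega) x y' hp
      obtain ⟨g, hy', hy, hy'1, hy1⟩ := id c
      -- `W_x ≤ C(L)`
      have h2 : ws V x ≤ centralizer ((cj g V : Subgroup G) : Set G) := by
        intro a ha
        rw [mem_centralizer_iff]
        intro b hb
        exact (hm k (by omega) x y' hp a ha b (h.line_le_ws hy' hb)).symm
      have h3 : centralizer ((cj g V : Subgroup G) : Set G) ≤ centralizer ({y'} : Set G) := by
        intro c hc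
        rw [mem_centralizer_singleton_iff]
        exact (mem_centralizer_iff.mp hc y' hy').symm
      have h4 : ws V x ≤ o2 (centralizer ((cj g V : Subgroup G) : Set G)) := by
        refine le_trans (le_inf h1 h2) (le_o2 inf_le_right ((isPGroup_o2 _).to_le inf_le_left) ?_)
        refine le_normalizer_of_forall fun c hc a ha => ?_
        exact ⟨conj_mem_of_normalizer (le_normalizer_o2 _) (h3 hc) ha.1, conj_mem_cent hc ha.2⟩
      have h5 : centralizer (ws V y : Set G) ≤ centralizer ((cj g V : Subgroup G) : Set G) :=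
        centralizer_le (h.line_le_ws hy)
      have h6 : ws V x ≤ centralizer (ws V y : Set G) := by
        intro a ha
        rw [mem_centralizer_iff]
        intro b hb
        exact (hm (k + 1) hk x y hxy0 a ha b hb).symm
      have h7 : ws V x ≤ o2 (centralizer (ws V y : Set G)) := by
        refine le_trans (le_inf h4 h6) (le_o2 inf_le_right ((isPGroup_o2 _).to_le inf_le_left) ?_)
        refine le_normalizer_of_forall fun c hc a ha => ?_
        exact ⟨conj_mem_of_normalizer (le_normalizer_o2 _) (h5 hc) ha.1, conj_mem_cent hc ha.2⟩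
      refine h7.trans ?_
      have h8 : centralizer (ws V y : Set G) ≤ centralizer ({y} : Set G) := by
        intro c' hc'
        rw [mem_centralizer_singleton_iff]
        exact (mem_centralizer_iff.mp hc' y (h.mem_ws_self c.right)).symm
      refine le_o2 ((o2_le _).trans h8) (isPGroup_o2 _) ?_
      exact ((centralizer_le_normalizer_ws V y).trans (normalizer_le_normalizer_centralizer _)).trans
        (normalizer_le_normalizer_o2 _)

end Fl

/-! ### critical pairs -/

/-- One side of a critical pair `(x, y)`: a flag `(y, L)` with Sylow group `T` and `W_x ≤ O₂(C_G(L))`. -/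
structure Side (V : Subgroup G) (x y : G) (T L : Subgroup G) : Prop where
  line : ∃ g, L = cj g V
  fl : Fl T L y
  le_o2 : ws V x ≤ o2 (centralizer (L : Set G))
  left : ∀ a ∈ ws V x, ∀ b ∈ ws V y, a * b * a⁻¹ * b⁻¹ ∈ ws V x
  right : ∀ a ∈ ws V x, ∀ b ∈ ws V y, a * b * a⁻¹ * b⁻¹ ∈ ws V y
  ne : ¬ Com V x y

/-- the last line of a critical pair -/
theorem last [Finite G] {T V : Subgroup G} {z : G} (h : Fl T V z) {n : ℕ} {x y : G}
    (hc : Cr V (n + 1) x y) :
    ∃ g, y ∈ cj g V ∧ y ≠ 1 ∧ ws V x ≤ o2 (centralizer ((cj g V : Subgroup G) : Set G)) := by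
  have hp := hc.path
  cases hp with
  | @step _ _ y' _ hp c =>
    obtain ⟨g, hy', hy, hy'1, hy1⟩ := id c
    refine ⟨g, hy, hy1, ?_⟩
    have h1 := h.ws_le_o2_of_pth hc.min n (by omega) x y' hp
    have h2 : ws V x ≤ centralizer ((cj g V : Subgroup G) : Set G) := by
      intro a ha
      rw [mem_centralizer_iff]
      intro b hb
      exact (hc.min n (by omega) x y' hp a ha b (h.line_le_ws hy' hb)).symm
    have h3 : centralizer ((cj g V : Subgroup G) : Set G) ≤ centralizer ({y'} : Set G) := by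
      intro c hc
      rw [mem_centralizer_singleton_iff]
      exact (mem_centralizer_iff.mp hc y' hy').symm
    refine le_trans (le_inf h1 h2) (le_o2 inf_le_right ((isPGroup_o2 _).to_le inf_le_left) ?_)
    refine le_normalizer_of_forall fun c hc a ha => ?_
    exact ⟨conj_mem_of_normalizer (le_normalizer_o2 _) (h3 hc) ha.1, conj_mem_cent hc ha.2⟩

theorem cent [Finite G] {T V : Subgroup G} {z : G} (h : Fl T V z) {n : ℕ} {x y : G}
    (hc : Cr V (n + 1) x y) : ws V x ≤ centralizer ({y} : Set G) := by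
  obtain ⟨g, hy, -, hle⟩ := last h hc
  refine (hle.trans (o2_le _)).trans fun c hc => ?_
  rw [mem_centralizer_singleton_iff]
  exact (mem_centralizer_iff.mp hc y hy).symm

/-- **the side at `y` of a critical pair** -/
theorem side [Finite G] {T V : Subgroup G} {z : G} (h : Fl T V z) {n : ℕ} {x y : G}
    (hc : Cr V (n + 1) x y) : ∃ k, k * z * k⁻¹ = y ∧ Side V x y (cj k T) (cj k V) := by
  obtain ⟨g, hy, hy1, hle⟩ := last h hc
  obtain ⟨k, hk, hky, hf⟩ := h.flag hy hy1
  have hr : ∀ a ∈ ws V x, ∀ b ∈ ws V y, a * b * a⁻¹ * b⁻¹ ∈ ws V y := fun a ha b hb =>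
    mul_mem (conj_mem_of_normalizer (centralizer_le_normalizer_ws V y) (cent h hc ha) hb) (inv_mem hb)
  have hl : ∀ a ∈ ws V x, ∀ b ∈ ws V y, a * b * a⁻¹ * b⁻¹ ∈ ws V x := by
    intro a ha b hb
    have e : a * b * a⁻¹ * b⁻¹ = a * (b * a⁻¹ * b⁻¹) := by group
    rw [e]
    exact mul_mem ha (conj_mem_of_normalizer (centralizer_le_normalizer_ws V x) (cent h hc.symm hb)
      (inv_mem ha))
  refine ⟨k, hky, ⟨k, rfl⟩, ?_, ?_, hl, hr, hc.ne⟩
  · rw [hk]; exact hf
  · rw [hk]; exact hle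

/-- **both sides of a critical pair** -/
theorem sides [Finite G] {T V : Subgroup G} {z : G} (h : Fl T V z) {n : ℕ} {x y : G}
    (hc : Cr V (n + 1) x y) :
    (∃ k, k * z * k⁻¹ = y ∧ Side V x y (cj k T) (cj k V)) ∧
      ∃ k, k * z * k⁻¹ = x ∧ Side V y x (cj k T) (cj k V) :=
  ⟨side h hc, side h hc.symm⟩

namespace Side

variable {V T L : Subgroup G} {x y : G}

theorem ws_eq (h : Side V x y T L) (p : G) : ws L p = ws V p := by
  obtain ⟨g, hg⟩ := h.line
  rw [hg, ws_cj]

theorem le_centralizer_L (h : Side V x y T L) : ws V x ≤ centralizer (L : Set G) :=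
  h.le_o2.trans (o2_le _)

theorem L_le (h : Side V x y T L) : L ≤ ws V y := by
  have := h.fl.ln.V_le_ws
  rwa [h.ws_eq] at this

theorem le_C (h : Side V x y T L) : ws V x ≤ centralizer ({y} : Set G) := by
  refine h.le_centralizer_L.trans fun c hc => ?_
  rw [mem_centralizer_singleton_iff]
  exact (mem_centralizer_iff.mp hc y h.fl.ln.z_mem).symm

theorem le_normalizer (h : Side V x y T L) : ws V x ≤ normalizer ((ws V y : Subgroup G) : Set G) :=
  h.le_C.trans (centralizer_le_normalizer_ws V y)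

theorem ab (h : Side V x y T L) : ∀ a ∈ ws V y, ∀ b ∈ ws V y, a * b = b * a := by
  have := h.fl.ab
  rwa [h.ws_eq] at this

theorem sq (h : Side V x y T L) : ∀ a ∈ ws V y, a * a = 1 := by
  have := h.fl.sqz
  rwa [h.ws_eq] at this

theorem faith (h : Side V x y T L) {k : G} (hk : k ∈ centralizer ({y} : Set G))
    (h1 : ∀ w ∈ ws V y, k * w * k⁻¹ * w⁻¹ ∈ zpowers y) : k ∈ centralizer (ws V y : Set G) := by
  have := h.fl.faith hk
  rw [h.ws_eq] at this
  exact this h1

theorem red [Finite G] (h : Side V x y T L) {M : Subgroup G} (hM : M ≤ centralizer ({y} : Set G))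
    (hn : centralizer ({y} : Set G) ≤ normalizer (M : Set G)) {k : ℕ}
    (h2 : (centralizer (ws V y : Set G)).relIndex M = 2 ^ k) : M ≤ centralizer (ws V y : Set G) := by
  have := h.fl.red hM hn (k := k)
  rw [h.ws_eq] at this
  exact this h2

theorem fix [Finite G] (h : Side V x y T L) {w : G} (hw : w ∈ ws V y) (hT : ∀ t ∈ T, t * w = w * t) :
    w = 1 ∨ w = y := by
  rw [← h.ws_eq] at hw
  exact h.fl.fix hw hT

/-- `W_x` is quadratic on `W_y`, if `W_x` is abelian -/
theorem quad (h : Side V x y T L) (hx : ∀ a ∈ ws V x, ∀ b ∈ ws V x, a * b = b * a) {a a' b : G}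
    (ha : a ∈ ws V x) (ha' : a' ∈ ws V x) (hb : b ∈ ws V y) :
    a' * (a * b * a⁻¹ * b⁻¹) = (a * b * a⁻¹ * b⁻¹) * a' := hx a' ha' _ (h.left a ha b hb)

/-- `W_y = ⟨L^c : c ∈ C_G(y)⟩` -/
theorem gen (h : Side V x y T L) {U : Subgroup G} (hU : ∀ c ∈ centralizer ({y} : Set G), cj c L ≤ U) :
    ws V y ≤ U := by
  rw [← h.ws_eq]
  refine ws_le fun L' hL' => ?_
  obtain ⟨c, hc, rfl⟩ := h.fl.ln.exists_of_mem_lines hL'
  exact hU c hc

/-- **one of the two sides is an offender**: `|W_y : C_{W_y}(W_x)| ≤ |W_x : C_{W_x}(W_y)|` or conversely. -/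
theorem offender (V : Subgroup G) (x y : G) :
    (centralizer (ws V x : Set G)).relIndex (ws V y) ≤ (centralizer (ws V y : Set G)).relIndex (ws V x) ∨
      (centralizer (ws V y : Set G)).relIndex (ws V x) ≤ (centralizer (ws V x : Set G)).relIndex (ws V y) :=
  le_total _ _

end Side

/-! ### existence of a critical pair -/

/-- If all pairs commute, a nontrivial 2-subgroup is normalised by `N_G(V)` and `C_G(z)`. -/
theorem exists_local [Finite G] {T V : Subgroup G} {z : G} (h : Fl T V z)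
    (hall : ∀ k x y, Pth V k x y → Com V x y) :
    ∃ U : Subgroup G, IsPGroup 2 U ∧ U ≠ ⊥ ∧ normalizer (V : Set G) ≤ normalizer (U : Set G) ∧
      centralizer ({z} : Set G) ≤ normalizer (U : Set G) := by
  have hz0 : Col V z z := ⟨1, by rw [cj_one]; exact h.ln.z_mem, by rw [cj_one]; exact h.ln.z_mem,
    h.ln.z_ne, h.ln.z_ne⟩
  let I := {x : G // ∃ k, Pth V k z x}
  let U : Subgroup G := ⨆ x : I, ws V (x : G)
  have hle : ∀ x, (∃ k, Pth V k z x) → ws V x ≤ U := fun x hx => le_iSup (fun x : I => ws V (x : G)) ⟨x, hx⟩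
  have hab : U ≤ centralizer (U : Set G) := by
    refine iSup_le fun x => ?_
    rw [le_centralizer_iff]
    refine iSup_le fun y => ?_
    obtain ⟨k, hk⟩ := x.2
    obtain ⟨l, hl⟩ := y.2
    intro a ha
    rw [mem_centralizer_iff]
    intro b hb
    exact hall _ _ _ (hk.symm.trans hl) b hb a ha
  have h2 : ∀ u ∈ U, u * u = 1 := by
    let E : Subgroup G :=
      { carrier := {x | x ∈ U ∧ x * x = 1}
        one_mem' := ⟨one_mem _, one_mul 1⟩
        mul_mem' := by
          rintro a b ⟨ha, ha2⟩ ⟨hb, hb2⟩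
          refine ⟨mul_mem ha hb, ?_⟩
          have h1 : b * a = a * b := (mem_centralizer_iff.1 (hab ha) b hb)
          calc a * b * (a * b) = a * (b * a) * b := by group
            _ = (a * a) * (b * b) := by rw [h1]; group
            _ = 1 := by rw [ha2, hb2, one_mul]
        inv_mem' := by
          rintro a ⟨ha, ha2⟩
          refine ⟨inv_mem ha, ?_⟩
          rw [inv_eq_self ha2]; exact ha2 }
    have hE : U ≤ E := iSup_le fun x a ha => by
      obtain ⟨k, hk⟩ := x.2
      exact ⟨hle x x.2 ha, h.ws_sq hk.right a ha⟩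
    exact fun u hu => (hE hu).2
  have hN : ∀ g : G, (∃ k, Pth V k z (g * z * g⁻¹)) → cj g U ≤ U := by
    rintro g ⟨k, hk⟩
    rw [cj_le_iff]
    refine iSup_le fun x => ?_
    rw [← cj_le_iff, cj_ws]
    obtain ⟨l, hl⟩ := x.2
    exact hle _ ⟨k + l, hk.trans (hl.conj g)⟩
  have hN' : ∀ g : G, (∃ k, Pth V k z (g * z * g⁻¹)) → (∃ k, Pth V k z (g⁻¹ * z * g⁻¹⁻¹)) →
      g ∈ normalizer (U : Set G) := by
    intro g h1 h3
    rw [mem_normalizer_iff_cj]
    apply le_antisymm (hN g h1)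
    have := hN g⁻¹ h3
    rw [cj_le_iff, inv_inv] at this
    exact this
  refine ⟨U, ?_, ?_, ?_, ?_⟩
  · intro u
    refine ⟨1, ?_⟩
    ext
    simpa [pow_two] using h2 u u.2
  · intro hU
    have h1 := hle z ⟨0, .zero hz0⟩ h.z_mem_ws
    rw [hU, mem_bot] at h1
    exact h.ln.z_ne h1
  · have key : ∀ g ∈ normalizer (V : Set G), ∃ k, Pth V k z (g * z * g⁻¹) := by
      intro g hg
      refine ⟨1, Pth.of_col ⟨1, ?_, ?_, h.ln.z_ne, fun e => h.ln.z_ne (conj_eq_one_iff.mp e)⟩⟩
      · rw [cj_one]; exact h.ln.z_mem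
      · rw [cj_one]; exact (mem_normalizer_iff.mp hg z).mp h.ln.z_mem
    exact fun g hg => hN' g (key g hg) (key _ (inv_mem hg))
  · have key : ∀ g ∈ centralizer ({z} : Set G), ∃ k, Pth V k z (g * z * g⁻¹) := by
      intro g hg
      rw [h.ln.z_comm hg, mul_inv_cancel_right]
      exact ⟨0, .zero hz0⟩
    exact fun g hg => hN' g (key g hg) (key _ (inv_mem hg))

/-- there is a critical pair -/
theorem exists_cr [Finite G] {T V : Subgroup G} {z : G} (h : Fl T V z)
    (hloc : ∀ U : Subgroup G, IsPGroup 2 U → normalizer (V : Set G) ≤ normalizer (U : Set G) →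
      centralizer ({z} : Set G) ≤ normalizer (U : Set G) → U = ⊥) :
    ∃ n x y, Cr V (n + 1) x y := by
  classical
  have h1 : ∃ k, ∃ x y, Pth V k x y ∧ ¬ Com V x y := by
    by_contra hcon
    push Not at hcon
    obtain ⟨U, hU2, hU, hU1, hU3⟩ := exists_local h hcon
    exact hU (hloc U hU2 hU1 hU3)
  obtain ⟨x, y, hp, hne⟩ := Nat.find_spec h1
  have hmin : Mn V (Nat.find h1) := by
    intro k hk a b hab
    by_contra hcon
    exact Nat.find_min h1 hk ⟨a, b, hab, hcon⟩
  have hpos : Nat.find h1 ≠ 0 := by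
    intro h0
    rw [h0] at hp
    cases hp with
    | zero hx => exact hne (h.ws_comm hx)
  obtain ⟨n, hn⟩ := Nat.exists_eq_succ_of_ne_zero hpos
  refine ⟨n, x, y, ?_⟩
  rw [Nat.succ_eq_add_one] at hn
  rw [← hn]
  exact ⟨hp, hne, hmin⟩

/-! ### the plug -/

/-- **The plug**: `Hyp S P`, `|V_P| = 4` and not (F1) give a flag `Fl S V z`. -/
theorem Fl.of_hyp [Finite G] {S : Sylow 2 G} {P : Subgroup G} (h : NO3S.Hyp S P)
    (hc : Nat.card (zl (S : Subgroup G) P) = 4) {z : G} (hz : z ∈ zc (S : Subgroup G)) (hz1 : z ≠ 1)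
    (nf : kq (zl (S : Subgroup G) P) z ≤ centralizer (zl (S : Subgroup G) P : Set G)) :
    Fl (S : Subgroup G) (zl (S : Subgroup G) P) z where
  ln := ln_four h hc hz hz1
  ab := by
    intro a ha b hb
    rw [ws_four h hc hz hz1] at ha hb
    exact mem_centralizer_iff.1 (h.W_comm hb) a ha
  nf := nf

/-- `⟨N_G(V), C_G(z)⟩` is nonlocal. -/
theorem nonLoc_of_hyp [Finite G] {S : Sylow 2 G} {P : Subgroup G} (h : NO3S.Hyp S P)
    (hc : Nat.card (zl (S : Subgroup G) P) = 4) {z : G} (hz : z ∈ zc (S : Subgroup G)) (hz1 : z ≠ 1) :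
    ∀ U : Subgroup G, IsPGroup 2 U →
      normalizer (zl (S : Subgroup G) P : Set G) ≤ normalizer (U : Set G) →
      centralizer ({z} : Set G) ≤ normalizer (U : Set G) → U = ⊥ := by
  intro U hU h1 h2
  refine h.nonLoc U hU ((MinSimple.VModule.le_normalizer_zl _ _).trans h1) ?_
  rw [← centralizer_singleton_eq_CZ h hc hz hz1]
  exact h2

/-- **(F1) from the impossibility of critical pairs of flags without (F1).** -/
theorem f1_of_not_cr [Finite G] {S : Sylow 2 G} {P : Subgroup G} (h : NO3S.Hyp S P)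
    (hc : Nat.card (zl (S : Subgroup G) P) = 4) {z : G} (hz : z ∈ zc (S : Subgroup G)) (hz1 : z ≠ 1)
    (hend : ∀ (T V : Subgroup G) (z : G), Fl T V z → ∀ n x y, ¬ Cr V (n + 1) x y) :
    ∃ k ∈ kq (zl (S : Subgroup G) P) z, k ∉ centralizer (zl (S : Subgroup G) P : Set G) := by
  by_contra hcon
  push Not at hcon
  have hf := Fl.of_hyp h hc hz hz1 hcon
  obtain ⟨n, x, y, hcr⟩ := exists_cr hf (nonLoc_of_hyp h hc hz hz1)
  exact hend _ _ _ hf n x y hcr

end Cfsg.Agent.Omega.FOne.Crit
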