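import Cfsg.Agent.Mrg.Omega.FOne.Rep
import Cfsg.Agent.Omega.FOne.KSeven

section


/-!
# (F1'): the end (bb OMEGA #15003, helper299)

* `GB r y0 y X` : `X ≤ W_y` is a block at the point `y` (a conjugate of a block `Tvw.Blk` of `W_z`);
* `GB.eq`, `GB.swap`, `GB.rot`, `GB.inv`, `GB.four` : the facts of LEMMA TVW in `G`;
* `side_gen` : one side of a critical pair with the K-input `PSin`;
* `PR` : non-commuting blocks at `u` and `v` normalising each other: `X ∩ X' = {1, u, v, u v}`;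
* `PR.kSeven` : the configuration of Lemma K7;
* `not_cr` : there is no critical pair of flags without (F1); `fOne` : **(F1)**.
-/

set_option autoImplicit false
set_option linter.unusedSectionVars false

namespace Cfsg.Agent.Omega.FOne.GBlk

open Subgroup Cfsg Cfsg.Agent.ZN Cfsg.Agent.MinSimple.Geo Cfsg.Agent.Omega.CaseL
open Cfsg.Agent.Omega.FOne.Crit (Fl Side)
open Cfsg.Agent.Omega.FOne.Rep
open Cfsg.Agent.Omega.FOne.Tvw (Base Blk IsTv z2 addself)
open Cfsg.Agent.Omega.NO3S.Pt (Col Pth Com Mn Cr conj_mem_cent)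
open Cfsg.Agent.ZN.Block (conj_mem_of_normalizer conj_mem_of_normalizer' le_normalizer_of_forall
  mem_normalizer_of)

universe u

variable {G : Type u} [Group G] {W : Type u} [AddCommGroup W] [Module (ZMod 2) W]

/-! ### the facts at the base point -/

section bf

variable {V : Subgroup G} {z : G} (r : Rp (ws V z) W) {y0 : W} {B : Submodule (ZMod 2) W}

theorem ne_zero {w : W} (h : r.e w ≠ 1) : w ≠ 0 := fun e => h (by rw [e, r.zero])

theorem ne_y (hy : r.e y0 = z) {w : W} (h : r.e w ≠ z) : w ≠ y0 := fun e => h (by rw [e]; exact hy)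

theorem bf_swap (hy : r.e y0 = z) (hB : Blk (HH r) y0 B) {u : G} (hu : u ∈ r.sub B) (u1 : u ≠ 1)
    (uz : u ≠ z) : ∃ c ∈ centralizer ({z} : Set G), c * u * c⁻¹ = u * z := by
  obtain ⟨w, hw, rfl⟩ := hu
  obtain ⟨φ, hφ, e⟩ := hB.swap hw (ne_zero r u1) (ne_y r hy uz)
  obtain ⟨c, hc, e'⟩ := (mem_HH r).mp hφ
  refine ⟨c, hc, ?_⟩
  rw [← e', e, r.add, hy]

theorem bf_eq [Finite W] (hy : r.e y0 = z) {B' : Submodule (ZMod 2) W} (hB : Blk (HH r) y0 B)
    (hB' : Blk (HH r) y0 B') {u : G} (hu : u ∈ r.sub B) (hu' : u ∈ r.sub B') (u1 : u ≠ 1) (uz : u ≠ z) :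
    B = B' := by
  obtain ⟨w, hw, rfl⟩ := hu
  rw [r.e_mem_sub] at hu'
  exact hB.eq hB' hw hu' (ne_zero r u1) (ne_y r hy uz)

theorem bf_rot [Finite W] (hy : r.e y0 = z) (hB : Blk (HH r) y0 B) {u a b : G} (hu : u ∈ r.sub B)
    (u1 : u ≠ 1) (uz : u ≠ z) (ha : a ∈ r.sub B) (a1 : a ≠ 1) (az : a ≠ z) (au : a ≠ u) (auz : a ≠ u * z)
    (hb : b ∈ r.sub B) (b1 : b ≠ 1) (bz : b ≠ z) (bu : b ≠ u) (buz : b ≠ u * z) :
    ∃ c ∈ centralizer ({z} : Set G), c * u * c⁻¹ = u ∧ (c * a * c⁻¹ * b = 1 ∨ c * a * c⁻¹ * b = z ∨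
      c * a * c⁻¹ * b = u ∨ c * a * c⁻¹ * b = u * z) := by
  obtain ⟨w, hw, rfl⟩ := hu
  obtain ⟨p, hp, rfl⟩ := ha
  obtain ⟨q, hq, rfl⟩ := hb
  obtain ⟨φ, hφ, e, e2⟩ := hB.rot hw (ne_zero r u1) (ne_y r hy uz) hp (ne_zero r a1) (ne_y r hy az)
    (fun e => au (by rw [e])) (fun e => auz (by rw [e, r.add, hy])) hq (ne_zero r b1) (ne_y r hy bz)
    (fun e => bu (by rw [e])) (fun e => buz (by rw [e, r.add, hy]))
  obtain ⟨c, hc, e'⟩ := (mem_HH r).mp hφ
  refine ⟨c, hc, ?_, ?_⟩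
  · rw [← e', e]
  · rw [← e', ← r.add]
    rcases e2 with e2 | e2 | e2 | e2 <;> rw [e2]
    · left; exact r.zero
    · right; left; exact hy
    · right; right; left; rfl
    · right; right; right; rw [r.add, hy]

theorem bf_inv [Finite W] (hy : r.e y0 = z) (hB : Blk (HH r) y0 B) {c : G}
    (hc : c ∈ centralizer ({z} : Set G)) (hX : ∀ x ∈ r.sub B, c * x * c⁻¹ ∈ r.sub B)
    (h2 : ∀ x ∈ r.sub B, c * (c * x * c⁻¹) * c⁻¹ = x) (hne : ∃ x ∈ r.sub B, c * x * c⁻¹ ≠ x) :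
    ∃ θ ∈ r.sub B, θ ≠ 1 ∧ θ ≠ z ∧ (∀ x ∈ r.sub B, c * x * c⁻¹ = x ↔ x = 1 ∨ x = z ∨ x = θ ∨ x = θ * z) ∧
      ∀ u ∈ r.sub B, c * u * c⁻¹ = u → ∃ v ∈ r.sub B, c * v * c⁻¹ * v = u := by
  have hC := centralizer_le_normalizer_ws V z
  obtain ⟨φ, hφ, e⟩ := r.exists_im hC le_rfl hc
  have hφ' : φ ∈ HH r := by rw [← imz_self]; exact hφ
  obtain ⟨θ, hθ, θ0, θy, h3, h4⟩ := hB.inv hφ' (fun x hx => by
      rw [← r.e_mem_sub, e]; exact hX _ (r.e_mem_sub.mpr hx))
    (fun x hx => by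
      apply r.inj
      rw [e, e]; exact h2 _ (r.e_mem_sub.mpr hx))
    (by
      obtain ⟨x, ⟨w, hw, rfl⟩, hne⟩ := hne
      refine ⟨w, hw, fun e' => hne ?_⟩
      rw [← e, e'])
  refine ⟨r.e θ, r.e_mem_sub.mpr hθ, fun e => θ0 (r.eq_one.mp e), fun e => θy (r.inj (e.trans hy.symm)),
    ?_, ?_⟩
  · rintro x ⟨w, hw, rfl⟩
    rw [← e]
    constructor
    · intro h5
      rcases (h3 w hw).mp (r.inj h5) with h6 | h6 | h6 | h6 <;> rw [h6]
      · left; exact r.zero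
      · right; left; exact hy
      · right; right; left; rfl
      · right; right; right; rw [r.add, hy]
    · intro h5
      have h6 : w = 0 ∨ w = y0 ∨ w = θ ∨ w = θ + y0 := by
        rcases h5 with h5 | h5 | h5 | h5
        · left; exact r.eq_one.mp h5
        · right; left; exact r.inj (h5.trans hy.symm)
        · right; right; left; exact r.inj h5
        · right; right; right
          apply r.inj
          rw [h5, r.add, hy]
      rw [(h3 w hw).mpr h6]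
  · rintro x ⟨w, hw, rfl⟩ h5
    rw [← e] at h5
    obtain ⟨v, hv, h6⟩ := h4 w hw (r.inj h5)
    refine ⟨r.e v, r.e_mem_sub.mpr hv, ?_⟩
    rw [← e, ← r.add, h6]

theorem bf_four [Finite W] (hy : r.e y0 = z) (hB : Blk (HH r) y0 B) {u : G} (hu : u ∈ r.sub B)
    (u1 : u ≠ 1) (uz : u ≠ z) (c : Fin 4 → G) (hc : ∀ i, c i ∈ centralizer ({z} : Set G))
    (hcu : ∀ i, c i * u * (c i)⁻¹ = u) (h2 : ∀ i, ∀ x ∈ r.sub B, c i * (c i * x * (c i)⁻¹) * (c i)⁻¹ = x)
    (hne : ∀ i, ∃ x ∈ r.sub B, c i * x * (c i)⁻¹ ≠ x) :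
    ∃ i j, i ≠ j ∧ ∀ x ∈ r.sub B, c i * x * (c i)⁻¹ = c j * x * (c j)⁻¹ := by
  have hC := centralizer_le_normalizer_ws V z
  obtain ⟨w, hw, rfl⟩ := hu
  choose φ hφ e using fun i => r.exists_im hC le_rfl (hc i)
  obtain ⟨i, j, hij, h3⟩ := hB.four hw (ne_zero r u1) (ne_y r hy uz) φ
    (fun i => by rw [← imz_self]; exact hφ i)
    (fun i => r.inj (by rw [e, hcu])) (fun i x hx => by
      apply r.inj
      rw [e, e]; exact h2 i _ (r.e_mem_sub.mpr hx))
    (fun i => by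
      obtain ⟨x, ⟨w, hw, rfl⟩, hne⟩ := hne i
      refine ⟨w, hw, fun e' => hne ?_⟩
      rw [← e, e'])
  refine ⟨i, j, hij, ?_⟩
  rintro x ⟨w', hw', rfl⟩
  rw [← e, ← e, h3 w' hw']

end bf

/-! ### blocks at all points -/

section GBs

variable {V : Subgroup G} {z : G} (r : Rp (ws V z) W) (y0 : W)

/-- the module `W_y`, `y = g z g⁻¹` -/
def trr (r : Rp (ws V z) W) {g y : G} (hg : g * z * g⁻¹ = y) {V' : Subgroup G} (hV : ws V' y = ws V y) :
    Rp (ws V' y) W where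
  e w := g * r.e w * g⁻¹
  add a b := by rw [r.add]; group
  inj a b h := r.inj (by simpa using h)
  rng x := by
    rw [hV, ← hg, ← cj_ws, mem_cj, r.rng]
    constructor
    · rintro ⟨w, e⟩; exact ⟨w, by rw [e]; group⟩
    · rintro ⟨w, rfl⟩; exact ⟨w, by group⟩

theorem trr_e {g y : G} (hg : g * z * g⁻¹ = y) {V' : Subgroup G} (hV : ws V' y = ws V y) (w : W) :
    (trr r hg hV).e w = g * r.e w * g⁻¹ := rfl

theorem HH_trr {g y : G} (hg : g * z * g⁻¹ = y) {V' : Subgroup G} (hV : ws V' y = ws V y) :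
    HH (trr r hg hV) = HH r := by
  ext φ
  rw [mem_HH, mem_HH]
  constructor
  · rintro ⟨c, hc, e⟩
    refine ⟨g⁻¹ * c * g, ?_, fun w => ?_⟩
    · rw [mem_centralizer_singleton_iff] at hc ⊢
      rw [← hg] at hc
      calc g⁻¹ * c * g * z = g⁻¹ * (c * (g * z * g⁻¹)) * g := by group
        _ = g⁻¹ * (g * z * g⁻¹ * c) * g := by rw [hc]
        _ = z * (g⁻¹ * c * g) := by group
    · have := e w
      rw [trr_e, trr_e] at this
      calc r.e (φ w) = g⁻¹ * (g * r.e (φ w) * g⁻¹) * g := by group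
        _ = g⁻¹ * c * g * r.e w * (g⁻¹ * c * g)⁻¹ := by rw [this]; group
  · rintro ⟨c, hc, e⟩
    refine ⟨g * c * g⁻¹, ?_, fun w => ?_⟩
    · rw [mem_centralizer_singleton_iff] at hc ⊢
      rw [← hg]
      calc g * c * g⁻¹ * (g * z * g⁻¹) = g * (c * z) * g⁻¹ := by group
        _ = g * (z * c) * g⁻¹ := by rw [hc]
        _ = g * z * g⁻¹ * (g * c * g⁻¹) := by group
    · rw [trr_e, trr_e, e]; group

/-- `X` is a block at the point `y` -/
def GB (y : G) (X : Subgroup G) : Prop :=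
  ∃ (g : G) (hg : g * z * g⁻¹ = y) (B : Submodule (ZMod 2) W), Blk (HH r) y0 B ∧
    X = (trr r hg (V' := V) rfl).sub B

variable {r y0} {y : G} {X X' : Subgroup G}

theorem GB.at (h : GB r y0 y X) {g : G} (hg : g * z * g⁻¹ = y) :
    ∃ B : Submodule (ZMod 2) W, Blk (HH r) y0 B ∧ X = (trr r hg (V' := V) rfl).sub B := by
  obtain ⟨g', hg', B', hB', rfl⟩ := h
  have hc : g⁻¹ * g' ∈ centralizer ({z} : Set G) := by
    rw [mem_centralizer_singleton_iff]
    calc g⁻¹ * g' * z = g⁻¹ * (g' * z * g'⁻¹) * g' := by group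
      _ = g⁻¹ * (g * z * g⁻¹) * g' := by rw [hg', hg]
      _ = z * (g⁻¹ * g') := by group
  obtain ⟨φ, hφ, e⟩ := r.exists_im (centralizer_le_normalizer_ws V z) le_rfl hc
  have hφ' : φ ∈ HH r := by rw [← imz_self]; exact hφ
  refine ⟨_, hB'.map hφ', ?_⟩
  ext x
  constructor
  · rintro ⟨w, hw, rfl⟩
    refine ⟨φ w, ⟨w, hw, rfl⟩, ?_⟩
    rw [trr_e, trr_e, e]; group
  · rintro ⟨_, ⟨w, hw, rfl⟩, rfl⟩
    refine ⟨w, hw, ?_⟩
    change g' * r.e w * g'⁻¹ = g * r.e (φ w) * g⁻¹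
    rw [e]; group

theorem GB.conj (h : GB r y0 y X) (k : G) : GB r y0 (k * y * k⁻¹) (cj k X) := by
  obtain ⟨g, hg, B, hB, rfl⟩ := h
  refine ⟨k * g, by rw [← hg]; group, B, hB, ?_⟩
  ext x
  rw [mem_cj]
  constructor
  · rintro ⟨w, hw, e⟩
    refine ⟨w, hw, ?_⟩
    rw [trr_e] at e ⊢
    calc k * g * r.e w * (k * g)⁻¹ = k * (g * r.e w * g⁻¹) * k⁻¹ := by group
      _ = x := by rw [e]; group
  · rintro ⟨w, hw, rfl⟩
    refine ⟨w, hw, ?_⟩
    rw [trr_e, trr_e]; group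

variable (hy : r.e y0 = z)
include hy

theorem e_tr {g : G} (hg : g * z * g⁻¹ = y) : (trr r hg (V' := V) rfl).e y0 = y := by
  rw [trr_e, hy]; exact hg

theorem GB.y_mem (h : GB r y0 y X) : y ∈ X := by
  obtain ⟨g, hg, B, hB, rfl⟩ := h
  exact ⟨y0, hB.y_mem, e_tr hy hg⟩

omit hy in
theorem GB.le (h : GB r y0 y X) : X ≤ ws V y := by
  obtain ⟨g, hg, B, hB, rfl⟩ := h
  exact Rp.sub_le _ _

omit hy in
theorem GB.card (h : GB r y0 y X) : Nat.card X = 16 := by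
  obtain ⟨g, hg, B, hB, rfl⟩ := h
  rw [Rp.card_sub]
  exact hB.card

omit hy in
theorem GB.sq (h : GB r y0 y X) {x : G} (hx : x ∈ X) : x * x = 1 := by
  obtain ⟨g, hg, B, hB, rfl⟩ := h
  obtain ⟨w, hw, rfl⟩ := hx
  exact Rp.sq _ _

omit hy in
theorem GB.comm (h : GB r y0 y X) {a b : G} (ha : a ∈ X) (hb : b ∈ X) : a * b = b * a := by
  have h1 := h.sq (mul_mem ha hb)
  have h2 := h.sq ha
  have h3 := h.sq hb
  calc a * b = (a * b)⁻¹ := (inv_eq_self h1).symm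
    _ = b⁻¹ * a⁻¹ := by group
    _ = b * a := by rw [inv_eq_self h2, inv_eq_self h3]

theorem GB.y_ne (h : GB r y0 y X) : y ≠ 1 := by
  obtain ⟨g, hg, B, hB, rfl⟩ := h
  have h1 := hB.base.y0
  intro e
  apply h1
  rw [← r.eq_one, hy]
  rw [e] at hg
  exact conj_eq_one_iff.mp hg

theorem GB.eq [Finite G] (h : GB r y0 y X) (h' : GB r y0 y X') {u : G} (hu : u ∈ X) (hu' : u ∈ X')
    (u1 : u ≠ 1) (uy : u ≠ y) : X = X' := by
  obtain ⟨g, hg, B, hB, rfl⟩ := h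
  obtain ⟨B', hB', rfl⟩ := h'.at hg
  have : Finite W := r.finite
  have h1 : Blk (HH (trr r hg (V' := V) rfl)) y0 B := by rw [HH_trr]; exact hB
  have h2 : Blk (HH (trr r hg (V' := V) rfl)) y0 B' := by rw [HH_trr]; exact hB'
  rw [bf_eq _ (e_tr hy hg) h1 h2 hu hu' u1 uy]

theorem GB.swap (h : GB r y0 y X) {u : G} (hu : u ∈ X) (u1 : u ≠ 1) (uy : u ≠ y) :
    ∃ c ∈ centralizer ({y} : Set G), c * u * c⁻¹ = u * y := by
  obtain ⟨g, hg, B, hB, rfl⟩ := h
  have h1 : Blk (HH (trr r hg (V' := V) rfl)) y0 B := by rw [HH_trr]; exact hB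
  exact bf_swap _ (e_tr hy hg) h1 hu u1 uy

theorem GB.rot [Finite G] (h : GB r y0 y X) {u a b : G} (hu : u ∈ X) (u1 : u ≠ 1) (uz : u ≠ y)
    (ha : a ∈ X) (a1 : a ≠ 1) (az : a ≠ y) (au : a ≠ u) (auz : a ≠ u * y)
    (hb : b ∈ X) (b1 : b ≠ 1) (bz : b ≠ y) (bu : b ≠ u) (buz : b ≠ u * y) :
    ∃ c ∈ centralizer ({y} : Set G), c * u * c⁻¹ = u ∧ (c * a * c⁻¹ * b = 1 ∨ c * a * c⁻¹ * b = y ∨
      c * a * c⁻¹ * b = u ∨ c * a * c⁻¹ * b = u * y) := by
  obtain ⟨g, hg, B, hB, rfl⟩ := h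
  have : Finite W := r.finite
  have h1 : Blk (HH (trr r hg (V' := V) rfl)) y0 B := by rw [HH_trr]; exact hB
  exact bf_rot _ (e_tr hy hg) h1 hu u1 uz ha a1 az au auz hb b1 bz bu buz

theorem GB.inv [Finite G] (h : GB r y0 y X) {c : G}
    (hc : c ∈ centralizer ({y} : Set G)) (hX : ∀ x ∈ X, c * x * c⁻¹ ∈ X)
    (h2 : ∀ x ∈ X, c * (c * x * c⁻¹) * c⁻¹ = x) (hne : ∃ x ∈ X, c * x * c⁻¹ ≠ x) :
    ∃ θ ∈ X, θ ≠ 1 ∧ θ ≠ y ∧ (∀ x ∈ X, c * x * c⁻¹ = x ↔ x = 1 ∨ x = y ∨ x = θ ∨ x = θ * y) ∧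
      ∀ u ∈ X, c * u * c⁻¹ = u → ∃ v ∈ X, c * v * c⁻¹ * v = u := by
  obtain ⟨g, hg, B, hB, rfl⟩ := h
  have : Finite W := r.finite
  have h1 : Blk (HH (trr r hg (V' := V) rfl)) y0 B := by rw [HH_trr]; exact hB
  exact bf_inv _ (e_tr hy hg) h1 hc hX h2 hne

theorem GB.four [Finite G] (h : GB r y0 y X) {u : G} (hu : u ∈ X)
    (u1 : u ≠ 1) (uz : u ≠ y) (c : Fin 4 → G) (hc : ∀ i, c i ∈ centralizer ({y} : Set G))
    (hcu : ∀ i, c i * u * (c i)⁻¹ = u) (h2 : ∀ i, ∀ x ∈ X, c i * (c i * x * (c i)⁻¹) * (c i)⁻¹ = x)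
    (hne : ∀ i, ∃ x ∈ X, c i * x * (c i)⁻¹ ≠ x) :
    ∃ i j, i ≠ j ∧ ∀ x ∈ X, c i * x * (c i)⁻¹ = c j * x * (c j)⁻¹ := by
  obtain ⟨g, hg, B, hB, rfl⟩ := h
  have : Finite W := r.finite
  have h1 : Blk (HH (trr r hg (V' := V) rfl)) y0 B := by rw [HH_trr]; exact hB
  exact bf_four _ (e_tr hy hg) h1 hu u1 uz c hc hcu h2 hne

end GBs

/-! ### one side of a critical pair -/

theorem side_tr {V : Subgroup G} {x y : G} {T' L : Subgroup G} {k : G} (S : Side V x y T' L) :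
    Side (cj k V) x y T' L where
  line := by
    obtain ⟨g, hg⟩ := S.line
    exact ⟨g * k⁻¹, by rw [cj_cj, hg, inv_mul_cancel_right]⟩
  fl := S.fl
  le_o2 := by rw [ws_cj]; exact S.le_o2
  left := by rw [ws_cj, ws_cj]; exact S.left
  right := by rw [ws_cj, ws_cj]; exact S.right
  ne := by
    unfold Com
    rw [ws_cj, ws_cj]
    exact S.ne

theorem side_gen [Finite G] (hPS : PSin.{u}) (hK : IsKProper G) {T V : Subgroup G} {z : G}
    (r : Rp (ws V z) W) {y0 : W} (hy0 : r.e y0 = z) {x y k : G} (hk : k * z * k⁻¹ = y)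
    (hC : centralizer ({y} : Set G) ≠ ⊤) (hf : Fl (cj k T) (cj k V) y)
    (hxa : ∀ a ∈ ws V x, ∀ b ∈ ws V x, a * b = b * a) (hxs : ∀ a ∈ ws V x, a * a = 1)
    (S : Side V x y (cj k T) (cj k V))
    (hge : (centralizer (ws V x : Set G)).relIndex (ws V y) ≤
      (centralizer (ws V y : Set G)).relIndex (ws V x)) :
    (centralizer (ws V x : Set G)).relIndex (ws V y) = (centralizer (ws V y : Set G)).relIndex (ws V x) ∧
      ∃ Ss : Set (Subgroup G), (∀ X ∈ Ss, GB r y0 y X ∧ ∀ a ∈ ws V x, ∀ b ∈ X, a * b * a⁻¹ ∈ X) ∧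
        ∀ w ∈ ws V y, ∃ v ∈ sSup Ss, ∀ a ∈ ws V x, a * (w * v) = (w * v) * a := by
  have hWe : ws (cj k V) y = ws V y := ws_cj V k y
  have hWx : ws (cj k V) x = ws V x := ws_cj V k x
  have hy1 : (trr r hk hWe).e y0 = y := by rw [trr_e, hy0, hk]
  obtain ⟨h1, h2⟩ := side_out hf (trr r hk hWe) hPS hK hC (x := x) (by rw [hWx]; exact hxa)
    (by rw [hWx]; exact hxs) (side_tr S) hy1 (by rw [hWe, hWx]; exact hge)
  rw [hWe, hWx] at h1
  refine ⟨h1, ?_⟩
  have hfW : Finite W := r.finite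
  have hCn := centralizer_le_normalizer_ws (cj k V) y
  have hxC : ws (cj k V) x ≤ centralizer ({y} : Set G) := (side_tr (k := k) S).le_C
  obtain ⟨S', hS1, hS2⟩ := Tvw.gen (base hf (trr r hk hWe) hy1) (imz_le _ _) h2
  refine ⟨{X | ∃ B ∈ S', X = (trr r hk hWe).sub B}, ?_, ?_⟩
  · rintro X ⟨B, hB, rfl⟩
    obtain ⟨hb1, hb2⟩ := hS1 B hB
    rw [HH_trr] at hb1
    refine ⟨⟨k, hk, B, hb1, rfl⟩, ?_⟩
    rintro a ha b ⟨w, hw, rfl⟩
    rw [← hWx] at ha
    obtain ⟨φ, hφ, e⟩ := (trr r hk hWe).exists_im hCn hxC ha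
    rw [← e]
    exact ⟨φ w, hb2 φ hφ w hw, rfl⟩
  · intro w hw
    rw [← hWe] at hw
    obtain ⟨w', rfl⟩ := ((trr r hk hWe).rng w).mp hw
    obtain ⟨v', hv', hv2⟩ := hS2 w'
    refine ⟨(trr r hk hWe).e v', ?_, ?_⟩
    · have h3 : sSup S' ≤ (trr r hk hWe).mod (sSup {X | ∃ B ∈ S', X = (trr r hk hWe).sub B}) := by
        refine sSup_le fun B hB w hw => ?_
        have h4 : (trr r hk hWe).sub B ≤ sSup {X | ∃ B ∈ S', X = (trr r hk hWe).sub B} :=
          le_sSup ⟨B, hB, rfl⟩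
        exact h4 ⟨w, hw, rfl⟩
      exact h3 hv'
    · intro a ha
      rw [← hWx] at ha
      obtain ⟨φ, hφ, e⟩ := (trr r hk hWe).exists_im hCn hxC ha
      rw [← Rp.add]
      have h4 := e (w' + v')
      rw [hv2 φ hφ, eq_mul_inv_iff_mul_eq] at h4
      exact h4.symm

/-! ### pairs of blocks -/

section pairs

variable {V : Subgroup G} {z : G} {r : Rp (ws V z) W} {y0 : W}

/-- non-commuting blocks at `u` and `v`, normalising each other -/
structure PR (r : Rp (ws V z) W) (y0 : W) (u v : G) (X X' : Subgroup G) : Prop where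
  hu : GB r y0 u X
  hv : GB r y0 v X'
  ab : ∀ a ∈ ws V u, ∀ b ∈ ws V u, a * b = b * a
  cX' : ∀ b ∈ X', b * u = u * b
  cX : ∀ a ∈ X, a * v = v * a
  nX : ∀ b ∈ X', ∀ a ∈ X, b * a * b⁻¹ ∈ X
  nX' : ∀ a ∈ X, ∀ b ∈ X', a * b * a⁻¹ ∈ X'
  nc : ∃ a ∈ X, ∃ b ∈ X', a * b ≠ b * a

namespace PR

variable {u v : G} {X X' : Subgroup G}

theorem ne (h : PR r y0 u v X X') : u ≠ v := by
  rintro rfl
  obtain ⟨a, ha, b, hb, hab⟩ := h.nc
  exact hab (h.ab a (h.hu.le ha) b (h.hv.le hb))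

theorem symm (h : PR r y0 u v X X') (hab : ∀ a ∈ ws V v, ∀ b ∈ ws V v, a * b = b * a) :
    PR r y0 v u X' X where
  hu := h.hv
  hv := h.hu
  ab := hab
  cX' := h.cX
  cX := h.cX'
  nX := h.nX'
  nX' := h.nX
  nc := by
    obtain ⟨a, ha, b, hb, hab⟩ := h.nc
    exact ⟨b, hb, a, ha, fun e => hab e.symm⟩

theorem conj (h : PR r y0 u v X X') (g : G) :
    PR r y0 (g * u * g⁻¹) (g * v * g⁻¹) (cj g X) (cj g X') where
  hu := h.hu.conj g
  hv := h.hv.conj g
  ab := by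
    rw [← cj_ws]
    intro a ha b hb
    have := h.ab _ (mem_cj.mp ha) _ (mem_cj.mp hb)
    calc a * b = g * ((g⁻¹ * a * g) * (g⁻¹ * b * g)) * g⁻¹ := by group
      _ = g * ((g⁻¹ * b * g) * (g⁻¹ * a * g)) * g⁻¹ := by rw [this]
      _ = b * a := by group
  cX' := by
    intro b hb
    have := h.cX' _ (mem_cj.mp hb)
    calc b * (g * u * g⁻¹) = g * ((g⁻¹ * b * g) * u) * g⁻¹ := by group
      _ = g * (u * (g⁻¹ * b * g)) * g⁻¹ := by rw [this]
      _ = g * u * g⁻¹ * b := by group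
  cX := by
    intro b hb
    have := h.cX _ (mem_cj.mp hb)
    calc b * (g * v * g⁻¹) = g * ((g⁻¹ * b * g) * v) * g⁻¹ := by group
      _ = g * (v * (g⁻¹ * b * g)) * g⁻¹ := by rw [this]
      _ = g * v * g⁻¹ * b := by group
  nX := by
    intro b hb a ha
    rw [mem_cj] at hb ha ⊢
    have := h.nX _ hb _ ha
    have e : g⁻¹ * (b * a * b⁻¹) * g = g⁻¹ * b * g * (g⁻¹ * a * g) * (g⁻¹ * b * g)⁻¹ := by group
    rw [e]; exact this
  nX' := by
    intro b hb a ha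
    rw [mem_cj] at hb ha ⊢
    have := h.nX' _ hb _ ha
    have e : g⁻¹ * (b * a * b⁻¹) * g = g⁻¹ * b * g * (g⁻¹ * a * g) * (g⁻¹ * b * g)⁻¹ := by group
    rw [e]; exact this
  nc := by
    obtain ⟨a, ha, b, hb, hab⟩ := h.nc
    refine ⟨_, conj_mem_cj ha, _, conj_mem_cj hb, fun e => hab ?_⟩
    calc a * b = g⁻¹ * ((g * a * g⁻¹) * (g * b * g⁻¹)) * g := by group
      _ = g⁻¹ * ((g * b * g⁻¹) * (g * a * g⁻¹)) * g := by rw [e]
      _ = b * a := by group

variable [Finite G] (hy : r.e y0 = z)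
include hy

/-- the action of `c ∈ X'` on `X` -/
theorem act (h : PR r y0 u v X X') {c : G} (hc : c ∈ X') (hne : ∃ x ∈ X, c * x ≠ x * c) :
    ∃ θ ∈ X, θ ≠ 1 ∧ θ ≠ u ∧ (∀ x ∈ X, c * x = x * c ↔ x = 1 ∨ x = u ∨ x = θ ∨ x = θ * u) ∧
      ∀ x ∈ X, c * x = x * c ↔ x ∈ X' := by
  have hcc := h.hv.sq hc
  obtain ⟨θ, hθ, θ1, θu, h1, h2⟩ := h.hu.inv hy (c := c)
    (mem_centralizer_singleton_iff.mpr (h.cX' c hc)) (fun x hx => h.nX c hc x hx)
    (fun x hx => by
      rw [inv_eq_self hcc]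
      calc c * (c * x * c) * c = (c * c) * x * (c * c) := by group
        _ = x := by rw [hcc, one_mul, mul_one])
    (by
      obtain ⟨x, hx, hne⟩ := hne
      exact ⟨x, hx, fun e => hne (mul_inv_eq_iff_eq_mul.mp e)⟩)
  have key : ∀ x, c * x * c⁻¹ = x ↔ c * x = x * c := fun x => mul_inv_eq_iff_eq_mul
  refine ⟨θ, hθ, θ1, θu, fun x hx => by rw [← key]; exact h1 x hx, fun x hx => ⟨fun h3 => ?_, fun h3 => ?_⟩⟩
  · obtain ⟨w, hw, e⟩ := h2 x hx ((key x).mpr h3)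
    have h4 : c * (w * c⁻¹ * w⁻¹) ∈ X' := X'.mul_mem hc (h.nX' w hw _ (X'.inv_mem hc))
    have h5 : w⁻¹ = w := inv_eq_self (h.hu.sq hw)
    rw [h5] at h4
    rw [← e]
    have e2 : c * w * c⁻¹ * w = c * (w * c⁻¹ * w) := by group
    rw [e2]; exact h4
  · exact h.hv.comm hc h3

theorem u_mem (h : PR r y0 u v X X') : u ∈ X' := by
  obtain ⟨a, ha, b, hb, hab⟩ := h.nc
  obtain ⟨θ, -, -, -, -, h2⟩ := h.act hy hb ⟨a, ha, fun e => hab e.symm⟩
  exact (h2 u (h.hu.y_mem hy)).mp (h.cX' b hb)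

theorem v_mem (h : PR r y0 u v X X') (hab : ∀ a ∈ ws V v, ∀ b ∈ ws V v, a * b = b * a) : v ∈ X :=
  (h.symm hab).u_mem hy

/-- `X ∩ X' = {1, u, v, v u}` -/
theorem inter (h : PR r y0 u v X X') (hab : ∀ a ∈ ws V v, ∀ b ∈ ws V v, a * b = b * a) {x : G}
    (hx : x ∈ X) : x ∈ X' ↔ x = 1 ∨ x = u ∨ x = v ∨ x = v * u := by
  obtain ⟨a, ha, b, hb, hne⟩ := h.nc
  obtain ⟨θ, hθ, θ1, θu, h1, h2⟩ := h.act hy hb ⟨a, ha, fun e => hne e.symm⟩
  have hv1 := h.v_mem hy hab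
  have hv2 : v ∈ X' := h.hv.y_mem hy
  have hvθ := (h1 v hv1).mp ((h2 v hv1).mpr hv2)
  have hv0 := h.hv.y_ne hy
  have huv := h.ne
  have huu := h.hu.sq (h.hu.y_mem hy)
  rw [← h2 x hx, h1 x hx]
  rcases hvθ with e | e | e | e
  · exact absurd e hv0
  · exact absurd e.symm huv
  · rw [e]
  · have e1 : θ = v * u := by rw [e, mul_assoc, huu, mul_one]
    rw [e1, mul_assoc, huu, mul_one]
    constructor
    · rintro (h3 | h3 | h3 | h3)
      · exact Or.inl h3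
      · exact Or.inr (Or.inl h3)
      · exact Or.inr (Or.inr (Or.inr h3))
      · exact Or.inr (Or.inr (Or.inl h3))
    · rintro (h3 | h3 | h3 | h3)
      · exact Or.inl h3
      · exact Or.inr (Or.inl h3)
      · exact Or.inr (Or.inr (Or.inr h3))
      · exact Or.inr (Or.inr (Or.inl h3))

/-- an element of `X'` outside `X` which centralises `X` : then all of `X'` does -/
theorem ncomm (h : PR r y0 u v X X') (hab : ∀ a ∈ ws V v, ∀ b ∈ ws V v, a * b = b * a) {a b : G}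
    (ha : a ∈ X) (ha' : a ∉ X') (hb : b ∈ X') (hb' : b ∉ X) : a * b ≠ b * a := by
  intro e
  have huX := h.hu.y_mem hy
  have hvX' := h.hv.y_mem hy
  have hu' := h.u_mem hy
  have hv' := h.v_mem hy hab
  have hs := h.symm hab
  -- `b` centralises `X`
  have h1 : ∀ x ∈ X, b * x = x * b := by
    by_contra hcon
    push Not at hcon
    obtain ⟨θ, -, -, -, -, h2⟩ := h.act hy hb hcon
    exact ha' ((h2 a ha).mp e.symm)
  -- all of `X'` centralises `X`
  have hout : ∀ c ∈ X', c ∉ X → c ≠ 1 ∧ c ≠ v ∧ c ≠ u ∧ c ≠ u * v := by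
    intro c _ hc'
    refine ⟨?_, ?_, ?_, ?_⟩ <;> rintro rfl
    · exact hc' X.one_mem
    · exact hc' hv'
    · exact hc' huX
    · exact hc' (X.mul_mem huX hv')
  obtain ⟨p, hp, q, hq, hpq⟩ := h.nc
  have hqX : q ∉ X := fun hqX => hpq (h.hu.comm hp hqX)
  obtain ⟨b1, b2, b3, b4⟩ := hout b hb hb'
  obtain ⟨q1, q2, q3, q4⟩ := hout q hq hqX
  obtain ⟨c, hc, hcu, h3⟩ := h.hv.rot hy hu' (h.hu.y_ne hy) h.ne hb b1 b2 b3 b4 hq q1 q2 q3 q4
  -- `c` normalises `X`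
  have hcX : cj c X = X := by
    have h4 := h.hu.conj c
    rw [hcu] at h4
    refine h4.eq hy h.hu (u := v) ?_ hv' (h.hv.y_ne hy) h.ne.symm
    rw [mem_cj]
    have : c⁻¹ * v * c = v := by
      rw [mul_assoc, ← mem_centralizer_singleton_iff.mp hc, inv_mul_cancel_left]
    rw [this]; exact hv'
  -- `c b c⁻¹` centralises `X`
  have h5 : ∀ x ∈ X, (c * b * c⁻¹) * x = x * (c * b * c⁻¹) := by
    intro x hx
    rw [← hcX, mem_cj] at hx
    have := h1 _ hx
    calc (c * b * c⁻¹) * x = c * (b * (c⁻¹ * x * c)) * c⁻¹ := by group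
      _ = c * ((c⁻¹ * x * c) * b) * c⁻¹ := by rw [this]
      _ = x * (c * b * c⁻¹) := by group
  have h6 : ∀ m ∈ X, ∀ x ∈ X, m * x = x * m := fun m hm x hx => h.hu.comm hm hx
  have h7 : ∀ m, m ∈ X → c * b * c⁻¹ * q = m → False := by
    intro m hm em
    have eq1 : q = (c * b * c⁻¹)⁻¹ * m := by rw [← em]; group
    apply hpq
    have h8 := h5 p hp
    have h9 := h6 m hm p hp
    have h10 : (c * b * c⁻¹)⁻¹ * p = p * (c * b * c⁻¹)⁻¹ := inv_comm_of h8
    rw [eq1]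
    calc p * ((c * b * c⁻¹)⁻¹ * m) = (p * (c * b * c⁻¹)⁻¹) * m := by group
      _ = (c * b * c⁻¹)⁻¹ * (p * m) := by rw [← h10]; group
      _ = (c * b * c⁻¹)⁻¹ * m * p := by rw [← h9]; group
  rcases h3 with h3 | h3 | h3 | h3
  · exact h7 1 X.one_mem h3
  · exact h7 v hv' h3
  · exact h7 u huX h3
  · exact h7 (u * v) (X.mul_mem huX hv') h3

end PR

/-- The configuration of Lemma K7. -/
structure Cf (r : Rp (ws V z) W) (y0 : W) (U : Subgroup G) (XX : G → Subgroup G) : Prop where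
  gb : ∀ a ∈ U, a ≠ 1 → GB r y0 a (XX a)
  le : ∀ a ∈ U, a ≠ 1 → U ≤ XX a
  pr : ∀ a ∈ U, ∀ b ∈ U, a ≠ 1 → b ≠ 1 → a ≠ b → PR r y0 a b (XX a) (XX b)
  three : ∃ p q : G, p ∈ U ∧ q ∈ U ∧ p ≠ 1 ∧ q ≠ 1 ∧ p ≠ q ∧ ∀ w ∈ U, w ≠ 1 → w = p ∨ w = q ∨ w = p * q
  trans : ∀ a ∈ U, ∀ b ∈ U, a ≠ 1 → b ≠ 1 → ∃ g : G, (∀ x ∈ U, g * x * g⁻¹ ∈ U) ∧ g * a * g⁻¹ = b

namespace Cf

variable {U : Subgroup G} {XX : G → Subgroup G}

theorem usq (h : Cf r y0 U XX) {a : G} (ha : a ∈ U) : a * a = 1 := by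
  by_cases h1 : a = 1
  · rw [h1, mul_one]
  · exact (h.gb a ha h1).sq (h.le a ha h1 ha)

theorem other (h : Cf r y0 U XX) (a : G) : ∃ b ∈ U, b ≠ 1 ∧ b ≠ a := by
  obtain ⟨p, q, hp, hq, hp1, hq1, hpq, -⟩ := h.three
  by_cases e : p = a
  · exact ⟨q, hq, hq1, fun e' => hpq (e.trans e'.symm)⟩
  · exact ⟨p, hp, hp1, e⟩

theorem card_U (h : Cf r y0 U XX) : Nat.card U ≤ 4 := by
  obtain ⟨p, q, hp, hq, hp1, hq1, hpq, hall⟩ := h.three
  have h1 : (U : Set G) ⊆ {1, p, q, p * q} := by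
    intro w hw
    by_cases e : w = 1
    · left; exact e
    · rcases hall w hw e with e | e | e
      · right; left; exact e
      · right; right; left; exact e
      · right; right; right; exact e
  have h2 := Set.ncard_le_ncard h1 (Set.toFinite _)
  have h3 : ({1, p, q, p * q} : Set G).ncard ≤ 4 := by
    refine (Set.ncard_insert_le _ _).trans ?_
    have := Set.ncard_insert_le p {q, p * q}
    have := Set.ncard_insert_le q {p * q}
    rw [Set.ncard_singleton] at this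
    omega
  exact h2.trans h3

variable [Finite G] (hy : r.e y0 = z)
include hy

theorem inter (h : Cf r y0 U XX) {a b x : G} (ha : a ∈ U) (hb : b ∈ U) (ha1 : a ≠ 1) (hb1 : b ≠ 1)
    (hab : a ≠ b) (hx : x ∈ XX a) (hx' : x ∈ XX b) : x = 1 ∨ x = a ∨ x = b ∨ x = b * a :=
  ((h.pr a ha b hb ha1 hb1 hab).inter hy (h.pr b hb a ha hb1 ha1 hab.symm).ab hx).mp hx'

theorem inf (h : Cf r y0 U XX) {a b x : G} (ha : a ∈ U) (hb : b ∈ U) (ha1 : a ≠ 1) (hb1 : b ≠ 1)
    (hab : a ≠ b) (hx : x ∈ XX a) (hx' : x ∈ XX b) : x ∈ U := by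
  rcases h.inter hy ha hb ha1 hb1 hab hx hx' with e | e | e | e <;> rw [e]
  · exact U.one_mem
  · exact ha
  · exact hb
  · exact U.mul_mem hb ha

theorem cases (h : Cf r y0 U XX) {a b x : G} (ha : a ∈ U) (hb : b ∈ U) (ha1 : a ≠ 1) (hb1 : b ≠ 1)
    (hab : a ≠ b) (hx : x ∈ U) : x = 1 ∨ x = a ∨ x = b ∨ x = b * a :=
  h.inter hy ha hb ha1 hb1 hab (h.le a ha ha1 hx) (h.le b hb hb1 hx)

theorem uniq (h : Cf r y0 U XX) {a : G} (ha : a ∈ U) (ha1 : a ≠ 1) {Y : Subgroup G} (hY : GB r y0 a Y)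
    (hU : U ≤ Y) : Y = XX a := by
  obtain ⟨b, hb, hb1, hba⟩ := h.other a
  exact hY.eq hy (h.gb a ha ha1) (hU hb) (h.le a ha ha1 hb) hb1 hba

omit hy in
theorem cj_U (_ : Cf r y0 U XX) {g : G} (hg : ∀ x ∈ U, g * x * g⁻¹ ∈ U) : cj g U = U := by
  refine Subgroup.eq_of_le_of_card_ge ?_ ?_
  · rintro _ ⟨v, hv, rfl⟩
    exact hg v hv
  · rw [card_cj]

theorem conj (h : Cf r y0 U XX) {g : G} (hg : ∀ x ∈ U, g * x * g⁻¹ ∈ U) {a : G} (ha : a ∈ U)
    (ha1 : a ≠ 1) {x : G} (hx : x ∈ XX a) : g * x * g⁻¹ ∈ XX (g * a * g⁻¹) := by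
  have h1 : cj g (XX a) = XX (g * a * g⁻¹) := by
    refine h.uniq hy (hg a ha) (fun e => ha1 (conj_eq_one_iff.mp e)) ((h.gb a ha ha1).conj g) ?_
    rw [← h.cj_U hg]
    exact cj_mono (h.le a ha ha1)
  rw [← h1]
  exact conj_mem_cj hx

omit hy in
theorem exists_out (h : Cf r y0 U XX) {a : G} (ha : a ∈ U) (ha1 : a ≠ 1) :
    ∃ x ∈ XX a, ∃ y ∈ XX a, x ∉ U ∧ y ∉ U ∧ x * y ∉ U := by
  have hX : Nat.card (XX a) = 16 := (h.gb a ha ha1).card
  have hU := h.card_U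
  obtain ⟨x, hx, hxU⟩ : ∃ x ∈ XX a, x ∉ U := by
    by_contra hcon
    push Not at hcon
    have h1 : XX a ≤ U := hcon
    have h2 := Subgroup.card_le_of_le h1
    omega
  by_contra hcon
  push Not at hcon
  have h1 : (XX a : Set G) ⊆ (U : Set G) ∪ (fun w => x⁻¹ * w) '' (U : Set G) := by
    intro y hy
    by_cases hyU : y ∈ U
    · left; exact hyU
    · right
      exact ⟨x * y, hcon x hx y hy hxU hyU, by group⟩
  have h2 := Set.ncard_le_ncard h1 (Set.toFinite _)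
  have h3 := Set.ncard_union_le (U : Set G) ((fun w => x⁻¹ * w) '' (U : Set G))
  have h4 : ((fun w => x⁻¹ * w) '' (U : Set G)).ncard ≤ (U : Set G).ncard := Set.ncard_image_le (Set.toFinite _)
  have h5 : (U : Set G).ncard = Nat.card U := rfl
  have h6 : (XX a : Set G).ncard = Nat.card (XX a) := rfl
  omega

theorem ncomm (h : Cf r y0 U XX) {a b : G} (ha : a ∈ U) (hb : b ∈ U) (ha1 : a ≠ 1) (hb1 : b ≠ 1)
    (hab : a ≠ b) {x y : G} (hx : x ∈ XX a) (hyy : y ∈ XX b) (hxU : x ∉ U) (hyU : y ∉ U) :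
    x * y ≠ y * x :=
  (h.pr a ha b hb ha1 hb1 hab).ncomm hy (h.pr b hb a ha hb1 ha1 hab.symm).ab hx
    (fun e => hxU (h.inf hy ha hb ha1 hb1 hab hx e)) hyy
    (fun e => hyU (h.inf hy ha hb ha1 hb1 hab e hyy))

/-- **the configuration of Lemma K7** -/
theorem kSeven (h : Cf r y0 U XX) : KSeven U XX where
  sq a ha := h.usq ha
  three := h.three
  trans a ha b hb ha1 hb1 := h.trans a ha b hb ha1 hb1
  le := h.le
  xsq a ha ha1 x hx := (h.gb a ha ha1).sq hx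
  inf a ha b hb ha1 hb1 hab x hx hx' := h.inf hy ha hb ha1 hb1 hab hx hx'
  conj g hg a ha ha1 x hx := h.conj hy hg ha ha1 hx
  ctrans := by
    intro a ha ha1 x hx w hw hxU hwU
    obtain ⟨b, hb, hb1, hba⟩ := h.other a
    have hbX := h.le a ha ha1 hb
    have hout : ∀ x, x ∉ U → x ≠ 1 ∧ x ≠ a ∧ x ≠ b ∧ x ≠ b * a := fun x hxo =>
      ⟨fun e => hxo (by rw [e]; exact U.one_mem), fun e => hxo (by rw [e]; exact ha),
        fun e => hxo (by rw [e]; exact hb), fun e => hxo (by rw [e]; exact U.mul_mem hb ha)⟩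
    obtain ⟨x1, x2, x3, x4⟩ := hout x hxU
    obtain ⟨w1, w2, w3, w4⟩ := hout w hwU
    obtain ⟨c, hc, hcb, h1⟩ := (h.gb a ha ha1).rot hy hbX hb1 hba hx x1 x2 x3 x4 hw w1 w2 w3 w4
    have hca : c * a = a * c := mem_centralizer_singleton_iff.mp hc
    have hcb' : c * b = b * c := mul_inv_eq_iff_eq_mul.mp hcb
    refine ⟨c, ?_, ?_⟩
    · intro m hm
      rcases h.cases hy ha hb ha1 hb1 hba.symm hm with e | e | e | e <;> rw [e]
      · simp
      · exact hca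
      · exact hcb'
      · rw [← mul_assoc, hcb', mul_assoc, hca, ← mul_assoc]
    · have h2 : ∀ m ∈ U, c * x * c⁻¹ * w = m → ∃ z ∈ U, c * x * c⁻¹ = w * z := by
        intro m hm e
        refine ⟨m, hm, ?_⟩
        have hww := (h.gb a ha ha1).sq hw
        have h3 := (h.gb a ha ha1).comm (h.le a ha ha1 hm) hw
        rw [← h3, ← e]
        calc c * x * c⁻¹ = c * x * c⁻¹ * (w * w) := by rw [hww, mul_one]
          _ = c * x * c⁻¹ * w * w := by group
      rcases h1 with e | e | e | e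
      · exact h2 _ U.one_mem e
      · exact h2 _ ha e
      · exact h2 _ hb e
      · exact h2 _ (U.mul_mem hb ha) e
  big a ha ha1 := h.exists_out ha ha1
  ncomm a ha b hb ha1 hb1 hab x hx y hyy hxU hyU := h.ncomm hy ha hb ha1 hb1 hab hx hyy hxU hyU
  ind := by
    intro u hu v hv w hw hu1 hv1 hw1 huv huw hvw g hg
    by_cases hgU : g ∈ U
    · refine ⟨1, one_mem _, fun x hx => ?_⟩
      rw [inv_one, one_mul]
      exact (h.gb u hu hu1).comm (h.le u hu hu1 hgU) hx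
    obtain ⟨a, ha, b, hb, haU, hbU, habU⟩ := h.exists_out hv hv1
    obtain ⟨x0, hx0, -, -, hx0U, -, -⟩ := h.exists_out hu hu1
    have hgv := h.gb v hv hv1
    have hgw := h.gb w hw hw1
    have hab' : a * b ∈ XX v := mul_mem ha hb
    -- elements of `XX v`, `XX w` outside `U`
    have key : ∀ c : G, (c ∈ XX v ∨ c ∈ XX w) → c ∉ U → (c ∈ centralizer ({u} : Set G)) ∧
        c * v * c⁻¹ = v ∧ (∀ x ∈ XX u, c * (c * x * c⁻¹) * c⁻¹ = x) ∧ ∃ x ∈ XX u, c * x * c⁻¹ ≠ x := by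
      intro c hc hcU
      have hcm : ∀ m ∈ U, c * m = m * c := by
        intro m hm
        rcases hc with hc | hc
        · exact hgv.comm hc (h.le v hv hv1 hm)
        · exact hgw.comm hc (h.le w hw hw1 hm)
      have hcc : c * c = 1 := by
        rcases hc with hc | hc
        · exact hgv.sq hc
        · exact hgw.sq hc
      refine ⟨mem_centralizer_singleton_iff.mpr (hcm u hu), ?_, ?_, x0, hx0, ?_⟩
      · rw [hcm v hv, mul_inv_cancel_right]
      · intro x _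
        rw [inv_eq_self hcc]
        calc c * (c * x * c) * c = (c * c) * x * (c * c) := by group
          _ = x := by rw [hcc, one_mul, mul_one]
      · intro e
        have e1 := mul_inv_eq_iff_eq_mul.mp e
        rcases hc with hc | hc
        · exact h.ncomm hy hu hv hu1 hv1 huv hx0 hc hx0U hcU e1.symm
        · exact h.ncomm hy hu hw hu1 hw1 huw hx0 hc hx0U hcU e1.symm
    let c : Fin 4 → G := ![g, a, b, a * b]
    have hc : ∀ i, (c i ∈ XX v ∨ c i ∈ XX w) ∧ c i ∉ U := by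
      intro i
      fin_cases i
      · exact ⟨Or.inr hg, hgU⟩
      · exact ⟨Or.inl ha, haU⟩
      · exact ⟨Or.inl hb, hbU⟩
      · exact ⟨Or.inl hab', habU⟩
    obtain ⟨i, j, hij, h1⟩ := (h.gb u hu hu1).four hy (h.le u hu hu1 hv) hv1 huv.symm c
      (fun i => (key _ (hc i).1 (hc i).2).1) (fun i => (key _ (hc i).1 (hc i).2).2.1)
      (fun i => (key _ (hc i).1 (hc i).2).2.2.1) (fun i => (key _ (hc i).1 (hc i).2).2.2.2)
    have h2 : ∀ s t : G, (∀ x ∈ XX u, s * x * s⁻¹ = t * x * t⁻¹) → ∀ x ∈ XX u, (s⁻¹ * t) * x = x * (s⁻¹ * t) := by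
      intro s t hst x hx
      have := hst x hx
      calc s⁻¹ * t * x = s⁻¹ * (t * x * t⁻¹) * t := by group
        _ = s⁻¹ * (s * x * s⁻¹) * t := by rw [this]
        _ = x * (s⁻¹ * t) := by group
    have h3 : ∀ s t : G, (∀ x ∈ XX u, s * x * s⁻¹ = t * x * t⁻¹) → s⁻¹ * t ∈ XX v → s⁻¹ * t ∉ U → False := by
      intro s t hst h4 h5
      exact h.ncomm hy hu hv hu1 hv1 huv hx0 h4 hx0U h5 (h2 s t hst x0 hx0).symm
    have hin : ∀ s ∈ XX v, s⁻¹ = s := fun s hs => inv_eq_self (hgv.sq hs)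
    have haa := hgv.sq ha
    have hbb := hgv.sq hb
    have hcom := hgv.comm ha hb
    -- two elements of `XX v` do not agree on `XX u`
    have h12 : ¬ ∀ x ∈ XX u, a * x * a⁻¹ = b * x * b⁻¹ := by
      intro e
      refine h3 a b e ?_ ?_
      · rw [hin a ha]; exact hab'
      · rw [hin a ha]; exact habU
    have h13 : ¬ ∀ x ∈ XX u, a * x * a⁻¹ = a * b * x * (a * b)⁻¹ := by
      intro e
      refine h3 a (a * b) e ?_ ?_
      · rw [inv_mul_cancel_left]; exact hb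
      · rw [inv_mul_cancel_left]; exact hbU
    have h23 : ¬ ∀ x ∈ XX u, b * x * b⁻¹ = a * b * x * (a * b)⁻¹ := by
      intro e
      refine h3 b (a * b) e ?_ ?_
      · rw [hcom, inv_mul_cancel_left]; exact ha
      · rw [hcom, inv_mul_cancel_left]; exact haU
    have hres : ∀ b' ∈ XX v, (∀ x ∈ XX u, b' * x * b'⁻¹ = g * x * g⁻¹) →
        ∃ b ∈ XX v, ∀ x ∈ XX u, b⁻¹ * g * x = x * (b⁻¹ * g) := fun b' hb' e => ⟨b', hb', h2 b' g e⟩
    fin_cases i <;> fin_cases j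
    · exact absurd rfl hij
    · exact hres a ha fun x hx => (h1 x hx).symm
    · exact hres b hb fun x hx => (h1 x hx).symm
    · exact hres (a * b) hab' fun x hx => (h1 x hx).symm
    · exact hres a ha fun x hx => h1 x hx
    · exact absurd rfl hij
    · exact absurd (fun x hx => h1 x hx) h12
    · exact absurd (fun x hx => h1 x hx) h13
    · exact hres b hb fun x hx => h1 x hx
    · exact absurd (fun x hx => (h1 x hx).symm) h12
    · exact absurd rfl hij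
    · exact absurd (fun x hx => h1 x hx) h23
    · exact hres (a * b) hab' fun x hx => h1 x hx
    · exact absurd (fun x hx => (h1 x hx).symm) h13
    · exact absurd (fun x hx => (h1 x hx).symm) h23
    · exact absurd rfl hij

end Cf

end pairs

end Cfsg.Agent.Omega.FOne.GBlk

end

section


/-!
# (F1'): the end, main theorem

* `exists_cf` : a pair of non-commuting blocks gives the configuration of Lemma K7;
* `not_pr` : there is none;
* `not_cr` : **there is no critical pair of flags without (F1)**, from the K-input `Rep.PSin`;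
* `fOne` : **(F1)** for `NO3S.Hyp S P`, `|V_P| = 4`.
-/

set_option autoImplicit false
set_option linter.unusedSectionVars false

namespace Cfsg.Agent.Omega.FOne.Main

open Subgroup Cfsg Cfsg.Agent.ZN Cfsg.Agent.MinSimple.Geo Cfsg.Agent.Omega.CaseL
open Cfsg.Agent.Omega.FOne.Crit (Fl Side)
open Cfsg.Agent.Omega.FOne.Rep Cfsg.Agent.Omega.FOne.GBlk
open Cfsg.Agent.Omega.NO3S.Pt (Col Pth Com Mn Cr conj_mem_cent)
open Cfsg.Agent.ZN.Block (conj_mem_of_normalizer conj_mem_of_normalizer' le_normalizer_of_forall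
  mem_normalizer_of)

universe u

variable {G : Type u} [Group G] {W : Type u} [AddCommGroup W] [Module (ZMod 2) W]

section pairs

variable {V : Subgroup G} {z : G} {r : Rp (ws V z) W} {y0 : W} [Finite G] (hy : r.e y0 = z)
  {p q : G} {X X' : Subgroup G} (h : PR r y0 p q X X') (hab : ∀ a ∈ ws V q, ∀ b ∈ ws V q, a * b = b * a)
include hy h hab

omit [Finite G] hy h hab in
/-- `U = X ∩ X'` -/
theorem cj_eq_of {U : Subgroup G} [Finite G] {g : G} (hg : ∀ x ∈ U, g * x * g⁻¹ ∈ U) : cj g U = U := by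
  refine Subgroup.eq_of_le_of_card_ge ?_ ?_
  · rintro _ ⟨v, hv, rfl⟩
    exact hg v hv
  · rw [card_cj]

theorem mem_inf_iff {x : G} : x ∈ X ⊓ X' ↔ x = 1 ∨ x = p ∨ x = q ∨ x = q * p := by
  constructor
  · rintro ⟨h1, h2⟩
    exact (h.inter hy hab h1).mp h2
  · intro h1
    have hp := h.hu.y_mem hy
    have hq := h.v_mem hy hab
    have h2 : x ∈ X := by
      rcases h1 with e | e | e | e <;> rw [e]
      · exact X.one_mem
      · exact hp
      · exact hq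
      · exact X.mul_mem hq hp
    exact ⟨h2, (h.inter hy hab h2).mpr h1⟩

/-- an element centralising `p` and swapping `q` -/
theorem exists_swap1 : ∃ c : G, (∀ x ∈ X ⊓ X', c * x * c⁻¹ ∈ X ⊓ X') ∧ c * p * c⁻¹ = p ∧ c * q * c⁻¹ = q * p := by
  have hp := h.hu.y_mem hy
  have hq := h.v_mem hy hab
  obtain ⟨c, hc, e⟩ := h.hu.swap hy hq (h.hv.y_ne hy) h.ne.symm
  have e0 : c * p * c⁻¹ = p := by
    rw [mem_centralizer_singleton_iff.mp hc, mul_inv_cancel_right]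
  have hpp := h.hu.sq hp
  refine ⟨c, fun x hx => ?_, e0, e⟩
  rw [mem_inf_iff hy h hab] at hx ⊢
  rcases hx with e1 | e1 | e1 | e1 <;> rw [e1]
  · left; group
  · right; left; exact e0
  · right; right; right; exact e
  · right; right; left
    have : c * (q * p) * c⁻¹ = (c * q * c⁻¹) * (c * p * c⁻¹) := by group
    rw [this, e, e0, mul_assoc, hpp, mul_one]

/-- an element centralising `q` and swapping `p` -/
theorem exists_swap2 : ∃ c : G, (∀ x ∈ X ⊓ X', c * x * c⁻¹ ∈ X ⊓ X') ∧ c * p * c⁻¹ = q * p ∧ c * q * c⁻¹ = q := by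
  have hp := h.hu.y_mem hy
  have hq := h.v_mem hy hab
  have hqp := h.hu.comm hq hp
  obtain ⟨c, hc, e⟩ := h.hv.swap hy (h.u_mem hy) (h.hu.y_ne hy) h.ne
  have e0 : c * q * c⁻¹ = q := by
    rw [mem_centralizer_singleton_iff.mp hc, mul_inv_cancel_right]
  rw [← hqp] at e
  have hqq := h.hu.sq hq
  refine ⟨c, fun x hx => ?_, e, e0⟩
  rw [mem_inf_iff hy h hab] at hx ⊢
  rcases hx with e1 | e1 | e1 | e1 <;> rw [e1]
  · left; group
  · right; right; right; exact e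
  · right; right; left; exact e0
  · right; left
    have : c * (q * p) * c⁻¹ = (c * q * c⁻¹) * (c * p * c⁻¹) := by group
    rw [this, e, e0, ← mul_assoc, hqq, one_mul]

/-- `N(U)` is transitive on the pairs of different involutions of `U`. -/
theorem exists_pair {a b : G} (ha : a ∈ X ⊓ X') (hb : b ∈ X ⊓ X') (ha1 : a ≠ 1) (hb1 : b ≠ 1)
    (hne : a ≠ b) : ∃ g : G, (∀ x ∈ X ⊓ X', g * x * g⁻¹ ∈ X ⊓ X') ∧ g * p * g⁻¹ = a ∧ g * q * g⁻¹ = b := by
  obtain ⟨c, hc, c1, c2⟩ := exists_swap1 hy h hab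
  obtain ⟨d, hd, d1, d2⟩ := exists_swap2 hy h hab
  have hp := h.hu.y_mem hy
  have hq := h.v_mem hy hab
  have hqp := h.hu.comm hq hp
  have hpp := h.hu.sq hp
  have hqq := h.hu.sq hq
  let PP : G → G → Prop := fun a b =>
    ∃ g : G, (∀ x ∈ X ⊓ X', g * x * g⁻¹ ∈ X ⊓ X') ∧ g * p * g⁻¹ = a ∧ g * q * g⁻¹ = b
  have step : ∀ k, (∀ x ∈ X ⊓ X', k * x * k⁻¹ ∈ X ⊓ X') → ∀ a b, PP a b → PP (k * a * k⁻¹) (k * b * k⁻¹) := by
    rintro k hk a b ⟨g, hg, rfl, rfl⟩
    refine ⟨k * g, fun x hx => ?_, by group, by group⟩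
    have := hk _ (hg x hx)
    have e : k * (g * x * g⁻¹) * k⁻¹ = k * g * x * (k * g)⁻¹ := by group
    rwa [e] at this
  have s0 : PP p q := ⟨1, fun x hx => by simpa using hx, by group, by group⟩
  have cqp : c * (q * p) * c⁻¹ = q := by
    have : c * (q * p) * c⁻¹ = (c * q * c⁻¹) * (c * p * c⁻¹) := by group
    rw [this, c1, c2, mul_assoc, hpp, mul_one]
  have dqp : d * (q * p) * d⁻¹ = p := by
    have : d * (q * p) * d⁻¹ = (d * q * d⁻¹) * (d * p * d⁻¹) := by group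
    rw [this, d1, d2, ← mul_assoc, hqq, one_mul]
  have s1 : PP p (q * p) := by have := step c hc _ _ s0; rwa [c1, c2] at this
  have s2 : PP (q * p) q := by have := step d hd _ _ s0; rwa [d1, d2] at this
  have s3 : PP q (q * p) := by have := step c hc _ _ s2; rwa [cqp, c2] at this
  have s4 : PP (q * p) p := by have := step d hd _ _ s1; rwa [d1, dqp] at this
  have s5 : PP q p := by have := step d hd _ _ s3; rwa [d2, dqp] at this
  have ha' := (mem_inf_iff hy h hab).mp ha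
  have hb' := (mem_inf_iff hy h hab).mp hb
  rcases ha' with rfl | rfl | rfl | rfl
  · exact absurd rfl ha1
  · rcases hb' with rfl | rfl | rfl | rfl
    · exact absurd rfl hb1
    · exact absurd rfl hne
    · exact s0
    · exact s1
  · rcases hb' with rfl | rfl | rfl | rfl
    · exact absurd rfl hb1
    · exact s5
    · exact absurd rfl hne
    · exact s3
  · rcases hb' with rfl | rfl | rfl | rfl
    · exact absurd rfl hb1
    · exact s4
    · exact s2
    · exact absurd rfl hne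

/-- **the configuration of Lemma K7** -/
theorem exists_cf : ∃ XX : G → Subgroup G, Cf r y0 (X ⊓ X') XX := by
  classical
  have hp := h.hu.y_mem hy
  have hq := h.v_mem hy hab
  have hq1 := h.hv.y_ne hy
  have hp1 := h.hu.y_ne hy
  have hpq := h.ne
  set U : Subgroup G := X ⊓ X' with hU
  have hmem := fun x => mem_inf_iff hy h hab (x := x)
  have hpU : p ∈ U := (hmem p).mpr (Or.inr (Or.inl rfl))
  have hqU : q ∈ U := (hmem q).mpr (Or.inr (Or.inr (Or.inl rfl)))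
  have hoth : ∀ a, ∃ b ∈ U, b ≠ 1 ∧ b ≠ a := by
    intro a
    by_cases e : p = a
    · exact ⟨q, hqU, hq1, fun e' => hpq (e.trans e'.symm)⟩
    · exact ⟨p, hpU, hp1, e⟩
  have huniq : ∀ {a : G} {Y Y' : Subgroup G}, GB r y0 a Y → GB r y0 a Y' → U ≤ Y → U ≤ Y' → Y = Y' := by
    intro a Y Y' hY hY' h1 h2
    obtain ⟨b, hb, hb1, hba⟩ := hoth a
    exact hY.eq hy hY' (h1 hb) (h2 hb) hb1 hba
  let XX : G → Subgroup G := fun a => if h : ∃ Y, GB r y0 a Y ∧ U ≤ Y then h.choose else ⊥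
  have hXX : ∀ {a : G} {Y : Subgroup G}, GB r y0 a Y → U ≤ Y → XX a = Y := by
    intro a Y hY h1
    have hex : ∃ Y, GB r y0 a Y ∧ U ≤ Y := ⟨Y, hY, h1⟩
    have e : XX a = hex.choose := dif_pos hex
    rw [e]
    exact huniq hex.choose_spec.1 hY hex.choose_spec.2 h1
  have hpair : ∀ a ∈ U, ∀ b ∈ U, a ≠ 1 → b ≠ 1 → a ≠ b → PR r y0 a b (XX a) (XX b) ∧ U ≤ XX a := by
    intro a ha b hb ha1 hb1 hne
    obtain ⟨g, hg, rfl, rfl⟩ := exists_pair hy h hab ha hb ha1 hb1 hne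
    have h1 := h.conj g
    have h0 : cj g U = U := cj_eq_of hg
    have h2 : U ≤ cj g X := by
      have := cj_mono (g := g) (inf_le_left : U ≤ X)
      rwa [h0] at this
    have h3 : U ≤ cj g X' := by
      have := cj_mono (g := g) (inf_le_right : U ≤ X')
      rwa [h0] at this
    rw [hXX h1.hu h2, hXX h1.hv h3]
    exact ⟨h1, h2⟩
  refine ⟨XX, ?_, ?_, fun a ha b hb ha1 hb1 hne => (hpair a ha b hb ha1 hb1 hne).1, ?_, ?_⟩
  · intro a ha ha1
    obtain ⟨b, hb, hb1, hba⟩ := hoth a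
    exact (hpair a ha b hb ha1 hb1 hba.symm).1.hu
  · intro a ha ha1
    obtain ⟨b, hb, hb1, hba⟩ := hoth a
    exact (hpair a ha b hb ha1 hb1 hba.symm).2
  · refine ⟨p, q, hpU, hqU, hp1, hq1, hpq, fun w hw hw1 => ?_⟩
    rcases (hmem w).mp hw with e | e | e | e
    · exact absurd e hw1
    · exact Or.inl e
    · exact Or.inr (Or.inl e)
    · right; right; rw [e]; exact h.hu.comm hq hp
  · intro a ha b hb ha1 hb1
    by_cases e : a = b
    · exact ⟨1, fun x hx => by simpa using hx, by rw [e]; group⟩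
    · obtain ⟨g, hg, e1, e2⟩ := exists_pair hy h hab ha hb ha1 hb1 e
      obtain ⟨k, hk, k1, k2⟩ := exists_pair hy h hab hb ha hb1 ha1 (Ne.symm e)
      -- `g` maps `p` to `a`, `k` maps `p` to `b`
      refine ⟨k * g⁻¹, fun x hx => ?_, ?_⟩
      · have h1 : g⁻¹ * x * g ∈ U := by
          have h2 : x ∈ cj g U := by rw [cj_eq_of hg]; exact hx
          exact mem_cj.mp h2
        have := hk _ h1
        have e' : k * (g⁻¹ * x * g) * k⁻¹ = k * g⁻¹ * x * (k * g⁻¹)⁻¹ := by group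
        rwa [e'] at this
      · rw [← e1, ← k1]; group

theorem not_pr : False := by
  obtain ⟨XX, hc⟩ := exists_cf hy h hab
  exact (hc.kSeven hy).false

end pairs

/-! ### the main theorem -/

/-- **No critical pair of flags without (F1).** -/
theorem not_cr [Finite G] (hPS : PSin.{u}) (hK : IsKProper G) {T V : Subgroup G} {z : G} (h : Fl T V z)
    (hC : centralizer ({z} : Set G) ≠ ⊤) {n : ℕ} {x y : G} (hcr : Cr V (n + 1) x y) : False := by
  have hxC : Col V x x := hcr.path.left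
  have hyC : Col V y y := hcr.path.right
  have hxa := h.ws_comm hxC
  have hxs := h.ws_sq hxC
  have hya := h.ws_comm hyC
  have hys := h.ws_sq hyC
  obtain ⟨⟨k, hk, S⟩, ⟨k', hk', S'⟩⟩ := Crit.sides h hcr
  have hCy : ∀ {g y : G}, g * z * g⁻¹ = y → centralizer ({y} : Set G) ≠ ⊤ := by
    rintro g y rfl e
    apply hC
    rw [← cj_centralizer_singleton] at e
    rw [eq_top_iff]
    intro a _
    have : g * a * g⁻¹ ∈ cj g (centralizer ({z} : Set G)) := by rw [e]; exact mem_top _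
    rw [mem_cj] at this
    have e' : g⁻¹ * (g * a * g⁻¹) * g = a := by group
    rwa [e'] at this
  obtain ⟨W, i1, i2, ⟨r⟩⟩ := exists_rp (h.ab) (h.sqz)
  obtain ⟨y0, hy0⟩ := (r.rng z).mp h.z_mem_ws
  have hf : Fl (cj k T) (cj k V) y := by have := h.conj k; rwa [hk] at this
  have hf' : Fl (cj k' T) (cj k' V) x := by have := h.conj k'; rwa [hk'] at this
  -- both sides are exact
  have heq : (centralizer (ws V x : Set G)).relIndex (ws V y) =
      (centralizer (ws V y : Set G)).relIndex (ws V x) := by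
    rcases le_total ((centralizer (ws V x : Set G)).relIndex (ws V y))
      ((centralizer (ws V y : Set G)).relIndex (ws V x)) with hle | hle
    · exact (side_gen hPS hK r hy0 hk (hCy hk) hf hxa hxs S hle).1
    · exact (side_gen hPS hK r hy0 hk' (hCy hk') hf' hya hys S' hle).1.symm
  obtain ⟨-, Ss, hS1, hS2⟩ := side_gen hPS hK r hy0 hk (hCy hk) hf hxa hxs S heq.le
  obtain ⟨-, Ss', hS1', hS2'⟩ := side_gen hPS hK r hy0 hk' (hCy hk') hf' hya hys S' heq.ge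
  -- non-commuting blocks
  obtain ⟨X, hX, X', hX', hnc⟩ : ∃ X ∈ Ss, ∃ X' ∈ Ss', ∃ a ∈ X, ∃ b ∈ X', a * b ≠ b * a := by
    by_contra hcon
    push Not at hcon
    have h1 : sSup Ss ≤ centralizer ((sSup Ss' : Subgroup G) : Set G) := by
      refine sSup_le fun X hX => ?_
      rw [le_centralizer_iff]
      refine sSup_le fun X' hX' => ?_
      intro b hb
      rw [mem_centralizer_iff]
      intro a ha
      exact hcon X hX X' hX' a ha b hb
    have h2 : sSup Ss ≤ ws V y := sSup_le fun X hX => (hS1 X hX).1.le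
    have h3 : sSup Ss' ≤ ws V x := sSup_le fun X hX => (hS1' X hX).1.le
    apply hcr.ne
    intro a ha b hb
    obtain ⟨v, hv, hv1⟩ := hS2 b hb
    obtain ⟨v', hv', hv1'⟩ := hS2' a ha
    -- `a * v = v * a`
    have e1 : v' * v = v * v' := (mem_centralizer_iff.mp (h1 hv) v' hv')
    have e2 : v * (a * v') = a * v' * v := hv1' v (h2 hv)
    have e3 : a * v = v * a := by
      have : a = a * v' * v'⁻¹ := by group
      have e4 : v'⁻¹ * v = v * v'⁻¹ := inv_comm_of e1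
      calc a * v = (a * v') * (v'⁻¹ * v) := by group
        _ = (a * v' * v) * v'⁻¹ := by rw [e4]; group
        _ = v * (a * v') * v'⁻¹ := by rw [e2]
        _ = v * a := by group
    have e5 := hv1 a ha
    have e6 : a * v⁻¹ = v⁻¹ * a := comm_inv_of e3
    calc a * b = (a * (b * v)) * v⁻¹ := by group
      _ = (b * v) * (a * v⁻¹) := by rw [e5]; group
      _ = b * a := by rw [e6]; group
  obtain ⟨hg, hn⟩ := hS1 X hX
  obtain ⟨hg', hn'⟩ := hS1' X' hX'
  have hXle := hg.le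
  have hXle' := hg'.le
  have hWxC : ∀ b ∈ ws V x, b * y = y * b := fun b hb => mem_centralizer_singleton_iff.mp (S.le_C hb)
  have hWyC : ∀ b ∈ ws V y, b * x = x * b := fun b hb => mem_centralizer_singleton_iff.mp (S'.le_C hb)
  exact not_pr hy0 (p := y) (q := x)
    { hu := hg
      hv := hg'
      ab := hya
      cX' := fun b hb => hWxC b (hXle' hb)
      cX := fun a ha => hWyC a (hXle ha)
      nX := fun b hb a ha => hn b (hXle' hb) a ha
      nX' := fun a ha b hb => hn' a (hXle ha) b hb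
      nc := hnc } hxa

/-- **(F1)**, `|V_P| = 4`, from the K-input (PS'). -/
theorem fOne (hPS : PSin.{u}) [Finite G] {S : Sylow 2 G} {P : Subgroup G} (h : NO3S.Hyp S P)
    (hc : Nat.card (zl (S : Subgroup G) P) = 4) {z : G} (hz : z ∈ zc (S : Subgroup G)) (hz1 : z ≠ 1) :
    ∃ k ∈ kq (zl (S : Subgroup G) P) z, k ∉ centralizer (zl (S : Subgroup G) P : Set G) := by
  by_contra hcon
  push Not at hcon
  have hf := Fl.of_hyp h hc hz hz1 hcon
  obtain ⟨n, x, y, hcr⟩ := Crit.exists_cr hf (Crit.nonLoc_of_hyp h hc hz hz1)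
  refine not_cr hPS h.ctx.kproper hf ?_ hcr
  intro e
  have hs := h.ctx.simple
  have h1 : z ∈ center G := by
    rw [mem_center_iff]
    intro g
    have : g ∈ centralizer ({z} : Set G) := by rw [e]; exact mem_top g
    exact mem_centralizer_singleton_iff.mp this
  rcases hs.eq_bot_or_eq_top_of_normal (center G) inferInstance with h2 | h2
  · rw [h2, mem_bot] at h1
    exact hz1 h1
  · apply h.ctx.nonComm
    refine ⟨⟨fun a b => ?_⟩⟩
    have : a ∈ center G := by rw [h2]; exact mem_top a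
    exact (mem_center_iff.mp this b).symm

end Cfsg.Agent.Omega.FOne.Main

end
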