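import Cfsg.Agent.Mrg.Omega.FOne.GBlk
import Cfsg.Agent.Mrg.Omega.NO3S.TwoOne.Main
import Cfsg.Agent.Mrg.Omega.FOne.Rep
import Cfsg.Agent.Mrg.Omega.ML.Ex.Def
import Cfsg.Agent.Mrg.Omega.NO3S.FarQ.FOne
import Cfsg.Agent.Mrg.Omega.NO3S.PB.Geom

section


/-!
# (F1) for the leaf `TwoOne`: helper391's Prop `FOneP` from the K-input (PS')
-/

set_option autoImplicit false

namespace Cfsg.Agent.Omega.FOne.Plug

open Cfsg Cfsg.Agent.Omega.Frame

universe u

/-- **(F1)**, in the form used by `TwoOne` / `TwoFar` / `TwoMid`. -/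
theorem fOneP (K : Cls.{u}) (hPS : Rep.PSin.{u}) : NO3S.TwoOne.FOneP K :=
  fun _ _ _ _ _ _ h hc _ hz hz1 => Or.inl (Main.fOne hPS h hc hz hz1)

end Cfsg.Agent.Omega.FOne.Plug

end

section


/-!
# (F1') from (NO) only: `PTv` and (ML) give `Rep.PSin`
-/

set_option autoImplicit false
set_option linter.unusedSectionVars false

namespace Cfsg.Agent.Omega.FOne.NOv

open Subgroup Cfsg
open Cfsg.Agent.Omega.FOne.Tvw (Base Blk IsTv z2 addself)
open Cfsg.Agent.ClassTwoFusion.Quad
open Cfsg.Agent.Omega.ML.MinFrame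

universe u

section act

variable {W : Type u} [AddCommGroup W] [Module (ZMod 2) W]

/-- `W / y`, written multiplicatively -/
abbrev QM (y : W) : Type u := Multiplicative (W ⧸ Submodule.span (ZMod 2) {y})

/-- the class of `w` -/
def qm (y w : W) : QM y := Multiplicative.ofAdd (Submodule.Quotient.mk w)

theorem qm_surj (y : W) (v : QM y) : ∃ w, qm y w = v := by
  obtain ⟨w, hw⟩ := Submodule.Quotient.mk_surjective _ (Multiplicative.toAdd v)
  exact ⟨w, by rw [qm, hw]; rfl⟩

theorem qm_add (y v w : W) : qm y (v + w) = qm y v * qm y w := rfl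

theorem qm_zero (y : W) : qm y 0 = 1 := rfl

theorem qm_eq {y v w : W} : qm y v = qm y w ↔ v = w ∨ v = w + y := by
  have h1 : qm y v = qm y w ↔ v - w ∈ Submodule.span (ZMod 2) {y} := Submodule.Quotient.eq _
  rw [h1, Submodule.mem_span_singleton]
  constructor
  · rintro ⟨a, ha⟩
    rcases z2 a with rfl | rfl
    · left; rw [zero_smul] at ha; exact sub_eq_zero.mp ha.symm
    · right; rw [one_smul] at ha; rw [ha]; abel
  · rintro (h | h)
    · exact ⟨0, by rw [h]; simp⟩
    · exact ⟨1, by rw [h]; simp⟩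

theorem map_span {y : W} {g : W ≃ₗ[ZMod 2] W} (hg : g y = y) :
    Submodule.span (ZMod 2) {y} ≤ (Submodule.span (ZMod 2) {y}).comap (g : W →ₗ[ZMod 2] W) := by
  rw [Submodule.span_le, Set.singleton_subset_iff]
  change g y ∈ Submodule.span (ZMod 2) {y}
  rw [hg]
  exact Submodule.mem_span_singleton_self y

/-- `H` acts on `W / y` -/
@[reducible] def qact (H : Subgroup (W ≃ₗ[ZMod 2] W)) (y : W) (hy : ∀ h ∈ H, h y = y) :
    MulDistribMulAction H (QM y) where
  smul h v := Multiplicative.ofAdd (Submodule.mapQ _ _ (h.1 : W →ₗ[ZMod 2] W) (map_span (hy h.1 h.2))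
    (Multiplicative.toAdd v))
  one_smul v := by
    obtain ⟨w, rfl⟩ := qm_surj y v
    rfl
  mul_smul g h v := by
    obtain ⟨w, rfl⟩ := qm_surj y v
    rfl
  smul_mul h v w := by
    obtain ⟨v, rfl⟩ := qm_surj y v
    obtain ⟨w, rfl⟩ := qm_surj y w
    change qm y ((h : W ≃ₗ[ZMod 2] W) (v + w)) = qm y ((h : W ≃ₗ[ZMod 2] W) v) * qm y ((h : W ≃ₗ[ZMod 2] W) w)
    rw [map_add]; rfl
  smul_one h := by
    change qm y ((h : W ≃ₗ[ZMod 2] W) 0) = 1
    rw [map_zero]; rfl

end act

section no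

variable {W : Type u} [AddCommGroup W] [Module (ZMod 2) W] [Finite W]

theorem card_cm {y : W} (y0 : y ≠ 0) (B : Subgroup (W ≃ₗ[ZMod 2] W)) (C : Subgroup (QM y))
    (hC : ∀ w, qm y w ∈ C ↔ w ∈ cm y B) : Nat.card (cm y B) = 2 * Nat.card C := by
  classical
  have hfQ : Finite (QM y) := Finite.of_surjective (qm y) (qm_surj y)
  -- a section
  choose s hs using qm_surj y
  let φ : Bool × C → cm y B := fun p => ⟨s p.2.1 + (if p.1 then y else 0), by
    refine (hC _).mp ?_
    have : qm y (s p.2.1 + (if p.1 then y else 0)) = p.2.1 := by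
      rw [← hs p.2.1]
      refine qm_eq.mpr ?_
      rw [hs]
      split_ifs
      · right; rfl
      · left; rw [add_zero]
    rw [this]; exact p.2.2⟩
  have hφ : Function.Bijective φ := by
    constructor
    · rintro ⟨b, c⟩ ⟨b', c'⟩ hh
      have h1 : s c.1 + (if b then y else 0) = s c'.1 + (if b' then y else 0) := congrArg Subtype.val hh
      have h2 : c = c' := by
        apply Subtype.ext
        rw [← hs c.1, ← hs c'.1]
        refine qm_eq.mpr ?_
        have h3 : s c.1 = s c'.1 + ((if b' then y else 0) - (if b then y else 0)) := by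
          rw [add_sub, ← h1]; abel
        rw [h3]
        split_ifs
        · left; simp
        · right; simp
        · right
          rw [zero_sub]
          congr 1
          exact neg_eq_of_add_eq_zero_left (addself y)
        · left; simp
      subst h2
      have h3 := add_left_cancel h1
      cases b <;> cases b' <;> simp at h3 <;> first | rfl | exact absurd h3 y0 | exact absurd h3.symm y0
    · rintro ⟨w, hw⟩
      have h1 : qm y w ∈ C := (hC w).mpr hw
      have h2 := hs (qm y w)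
      rcases qm_eq.mp h2 with h3 | h3
      · exact ⟨(false, ⟨_, h1⟩), Subtype.ext (by change s (qm y w) + _ = w; rw [h3]; simp)⟩
      · refine ⟨(true, ⟨_, h1⟩), Subtype.ext ?_⟩
        change s (qm y w) + _ = w
        rw [h3]
        simp only [if_true]
        rw [add_assoc, addself, add_zero]
  rw [← Nat.card_eq_of_bijective φ hφ, Nat.card_prod]
  simp

/-- **(NO)** -/
theorem no_of (hML : ML.Final.MLK.{u, u}) {H : Subgroup (W ≃ₗ[ZMod 2] W)} {y : W} {T Q B : Subgroup (W ≃ₗ[ZMod 2] W)}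
    {L : Submodule (ZMod 2) W} (hK : IsKGroupWith IsKnownSimple' H) (b : Base H y) (hTH : T ≤ H) (hT : IsPGroup 2 T)
    (hsyl : ¬ 2 ∣ T.relIndex H) (hcard : Nat.card L = 4) (hyL : y ∈ L) (hTL : ∀ t ∈ T, ∀ v ∈ L, t v ∈ L)
    (hgen : ∀ U : Submodule (ZMod 2) W, (∀ h ∈ H, ∀ v ∈ L, h v ∈ U) → U = ⊤)
    (hQH : Q ≤ H) (hQ : IsPGroup 2 Q) (hQL : ∀ q ∈ Q, ∀ v ∈ L, q v ∈ L)
    (hQn : ∀ h ∈ H, (∀ v ∈ L, h v ∈ L) → ∀ q ∈ Q, h * q * h⁻¹ ∈ Q) (hBQ : B ≤ Q) (hB : ∀ b ∈ B, b * b = 1) :
    Nat.card B * Nat.card (cm y B) ≤ Nat.card W := by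
  classical
  have hfin : Finite (W ≃ₗ[ZMod 2] W) := DFunLike.finite _
  let _ := qact H y b.fix
  have hfQ : Finite (QM y) := Finite.of_surjective (qm y) (qm_surj y)
  have hsm : ∀ (h : H) (w : W), h • qm y w = qm y ((h : W ≃ₗ[ZMod 2] W) w) := fun _ _ => rfl
  -- the generator of `L` modulo `y`
  obtain ⟨l, hl, hlL⟩ : ∃ l ∈ L, ∀ v, v ∈ L ↔ v = 0 ∨ v = y ∨ v = l ∨ v = l + y := by
    obtain ⟨l, hl, l0, ly⟩ : ∃ l ∈ L, l ≠ 0 ∧ l ≠ y := by
      by_contra hcon
      push Not at hcon
      have h1 : (L : Set W) ⊆ (({0, y} : Finset W) : Set W) := by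
        intro v hv
        by_cases h0 : v = 0
        · simp [h0]
        · simp [hcon v hv h0]
      have h2 := Set.ncard_le_ncard h1 (Finset.finite_toSet _)
      rw [Set.ncard_coe_finset] at h2
      have h3 : (L : Set W).ncard = 4 := hcard
      have h4 := Finset.card_le_two (a := (0 : W)) (b := y)
      omega
    refine ⟨l, hl, fun v => ⟨fun hv => ?_, ?_⟩⟩
    · have h1 : (({0, y, l, l + y} : Finset W) : Set W) ⊆ (L : Set W) := by
        intro x hx
        simp only [Finset.coe_insert, Finset.coe_singleton, Set.mem_insert_iff, Set.mem_singleton_iff] at hx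
        rcases hx with rfl | rfl | rfl | rfl
        · exact L.zero_mem
        · exact hyL
        · exact hl
        · exact L.add_mem hl hyL
      have hc : ({0, y, l, l + y} : Finset W).card = 4 := by
        have n1 : (0 : W) ∉ ({y, l, l + y} : Finset W) := by
          simp only [Finset.mem_insert, Finset.mem_singleton]
          rintro (h | h | h)
          · exact b.y0 h.symm
          · exact l0 h.symm
          · exact ly (Tvw.eq_of_add_eq_zero' h.symm)
        have n2 : y ∉ ({l, l + y} : Finset W) := by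
          simp only [Finset.mem_insert, Finset.mem_singleton]
          rintro (h | h)
          · exact ly h.symm
          · exact l0 (by simpa using h.symm)
        have n3 : l ∉ ({l + y} : Finset W) := by
          simp only [Finset.mem_singleton]
          intro h
          exact b.y0 (by simpa using h.symm)
        rw [Finset.card_insert_of_notMem n1, Finset.card_insert_of_notMem n2, Finset.card_insert_of_notMem n3,
          Finset.card_singleton]
      have h3 : (L : Set W).ncard = 4 := hcard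
      have h2 := Set.eq_of_subset_of_ncard_le h1 (by rw [Set.ncard_coe_finset, hc, h3]) (Set.toFinite _)
      have h4 : v ∈ (({0, y, l, l + y} : Finset W) : Set W) := by rw [h2]; exact hv
      simpa using h4
    · rintro (rfl | rfl | rfl | rfl)
      · exact L.zero_mem
      · exact hyL
      · exact hl
      · exact L.add_mem hl hyL
  have l0 : l ≠ 0 ∧ l ≠ y := by
    have h1 : ¬ (L : Set W) ⊆ (({0, y} : Finset W) : Set W) := by
      intro h1
      have h2 := Set.ncard_le_ncard h1 (Finset.finite_toSet _)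
      rw [Set.ncard_coe_finset] at h2
      have h3 : (L : Set W).ncard = 4 := hcard
      have h4 := Finset.card_le_two (a := (0 : W)) (b := y)
      omega
    constructor
    · rintro rfl
      apply h1
      intro v hv
      rcases (hlL v).mp hv with h | h | h | h <;> simp [h]
    · rintro rfl
      apply h1
      intro v hv
      rcases (hlL v).mp hv with h | h | h | h
      · simp [h]
      · simp [h]
      · simp [h]
      · rw [addself] at h; simp [h]
  -- elements of `H` which stabilise `L` fix the class of `l`, and conversely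
  have hfix : ∀ (h : H), (∀ v ∈ L, (h : W ≃ₗ[ZMod 2] W) v ∈ L) → h • qm y l = qm y l := by
    intro h hh
    rw [hsm, qm_eq]
    obtain ⟨n0, ny⟩ := Tvw.Blk.ne_of b h.2 l0.1 l0.2
    rcases (hlL _).mp (hh l hl) with h1 | h1 | h1 | h1
    · exact absurd h1 n0
    · exact absurd h1 ny
    · exact Or.inl h1
    · exact Or.inr h1
  have hstab : ∀ (h : H), h • qm y l = qm y l → ∀ v ∈ L, (h : W ≃ₗ[ZMod 2] W) v ∈ L := by
    intro h hh v hv
    rw [hsm, qm_eq] at hh
    have hly : (h : W ≃ₗ[ZMod 2] W) l ∈ L := by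
      rcases hh with h1 | h1 <;> rw [h1]
      · exact hl
      · exact L.add_mem hl hyL
    rcases (hlL v).mp hv with h1 | h1 | h1 | h1 <;> rw [h1]
    · rw [map_zero]; exact L.zero_mem
    · rw [b.fix _ h.2]; exact hyL
    · exact hly
    · rw [map_add, b.fix _ h.2]; exact L.add_mem hly hyL
  have hD : ML.Final.Dat (C := H) (V := QM y) (T.subgroupOf H) (Q.subgroupOf H) (B.subgroupOf H) (qm y l) := by
    refine ⟨?_, hT.of_equiv (subgroupOfEquivOfLe hTH).symm, hsyl, ?_, ?_, ?_, ?_, ?_, ?_⟩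
    · intro v
      obtain ⟨w, rfl⟩ := qm_surj y v
      rw [← qm_add, addself, qm_zero]
    · intro t ht
      exact hfix t fun v hv => hTL _ ht v hv
    · intro q hq
      obtain ⟨n, hn⟩ := hQ ⟨q, hq⟩
      refine ⟨n, fun v => ?_⟩
      have h2 : (q : W ≃ₗ[ZMod 2] W) ^ 2 ^ n = 1 := congrArg Subtype.val hn
      have h1 : q ^ 2 ^ n = 1 := Subtype.ext h2
      rw [h1, one_smul]
    · intro q hq
      exact hfix q fun v hv => hQL _ hq v hv
    · intro g hg q hq
      exact ⟨g * q * g⁻¹, hQn g g.2 (hstab g hg) q hq, fun _ => rfl⟩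
    · intro a ha
      exact ⟨a, hBQ ha, fun _ => rfl⟩
    · intro a ha v
      have h1 : a * a = 1 := Subtype.ext (hB _ ha)
      rw [← mul_smul, h1, one_smul]
  have key := hML.act hK hD
  -- the orbit of `l` generates
  have horb : orb (⊤ : Subgroup H) (qm y l) = ⊤ := by
    let U : Submodule (ZMod 2) W :=
      { carrier := {w | qm y w ∈ orb (⊤ : Subgroup H) (qm y l)}
        zero_mem' := by
          change qm y 0 ∈ orb (⊤ : Subgroup H) (qm y l)
          rw [qm_zero]; exact one_mem _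
        add_mem' := fun {a c} ha hc => by
          change qm y (a + c) ∈ orb (⊤ : Subgroup H) (qm y l)
          rw [qm_add]; exact mul_mem ha hc
        smul_mem' := fun c w hw => by
          change qm y (c • w) ∈ orb (⊤ : Subgroup H) (qm y l)
          rcases z2 c with rfl | rfl
          · rw [zero_smul, qm_zero]; exact one_mem _
          · rw [one_smul]; exact hw }
    have hU : U = ⊤ := by
      refine hgen U fun h hh v hv => ?_
      change qm y (h v) ∈ orb (⊤ : Subgroup H) (qm y l)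
      have h1 : qm y (h v) = (⟨h, hh⟩ : H) • qm y v := rfl
      rw [h1]
      have h2 : ∀ w, (w = 0 ∨ w = y) → qm y w = 1 := by
        intro w hw
        rw [← qm_zero y, qm_eq, zero_add]; exact hw
      rcases (hlL v).mp hv with h3 | h3 | h3 | h3
      · rw [h2 v (Or.inl h3), smul_one]; exact one_mem _
      · rw [h2 v (Or.inr h3), smul_one]; exact one_mem _
      · rw [h3]; exact smul_mem_orb_self (mem_top _)
      · have h4 : qm y v = qm y l := qm_eq.mpr (Or.inr h3)
        rw [h4]; exact smul_mem_orb_self (mem_top _)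
    rw [eq_top_iff]
    intro v _
    obtain ⟨w, rfl⟩ := qm_surj y v
    have : w ∈ U := by rw [hU]; exact Submodule.mem_top
    exact this
  rw [horb] at key
  -- the kernel is trivial
  have hker : fxr H (⊤ : Subgroup (QM y)) = ⊥ := by
    rw [eq_bot_iff]
    intro h hh
    rw [mem_bot]
    apply Subtype.ext
    refine b.faith _ h.2 fun w => ?_
    have h1 : h • qm y w = qm y w := hh _ (mem_top _)
    rw [hsm, qm_eq] at h1
    exact h1
  rw [hker, relIndex_bot_left, relIndex_top_right] at key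
  set C := cv (QM y) ((B.subgroupOf H : Subgroup H) : Set H) with hCdef
  have hCm : ∀ w, qm y w ∈ C ↔ w ∈ cm y B := by
    intro w
    constructor
    · intro h1 a ha
      have h2 : (⟨a, hQH (hBQ ha)⟩ : H) • qm y w = qm y w := h1 _ ha
      rw [hsm, qm_eq] at h2
      exact h2
    · intro h1 a ha
      change a • qm y w = qm y w
      rw [hsm, qm_eq]
      exact h1 _ ha
  have h1 := card_cm b.y0 B C hCm
  have h2 : Nat.card (cm y (⊥ : Subgroup (W ≃ₗ[ZMod 2] W))) = 2 * Nat.card (⊤ : Subgroup (QM y)) := by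
    refine card_cm b.y0 ⊥ ⊤ fun w => ⟨fun _ a ha => ?_, fun _ => mem_top _⟩
    rw [mem_bot.mp ha]; left; rfl
  have h3 : Nat.card (cm y (⊥ : Subgroup (W ≃ₗ[ZMod 2] W))) = Nat.card W := by
    have : cm y (⊥ : Subgroup (W ≃ₗ[ZMod 2] W)) = Set.univ := by
      rw [Set.eq_univ_iff_forall]
      intro w a ha
      rw [mem_bot.mp ha]; left; rfl
    rw [this, Nat.card_univ]
  rw [h3, Subgroup.card_top] at h2
  have h4 : Nat.card C * C.index = Nat.card (QM y) := C.card_mul_index
  have h5 : Nat.card (B.subgroupOf H) = Nat.card B := Nat.card_congr (subgroupOfEquivOfLe (hBQ.trans hQH)).toEquiv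
  rw [h5] at key
  rw [h1, h2, ← h4]
  calc Nat.card B * (2 * Nat.card C) ≤ C.index * (2 * Nat.card C) := Nat.mul_le_mul_right _ key
    _ = 2 * (Nat.card C * C.index) := by ring

end no

/-- **`PSin` from (ML) and `PTv`** -/
theorem psin_of (hML : ML.Final.MLK.{u, u}) (hP : PTv.{u}) : Rep.PSin.{u} := by
  intro W _ _ _ H y T A N L hK b hTH hT hsyl hfix hcard hyL hTL hsw hgen hNH hN hNL hNn hAN hA1 hsq hcomm hquad hle
  have S : Sw H y T N L :=
    { known := hK, base := b, TH := hTH, two := hT, syl := hsyl, fixT := hfix, card := hcard, yL := hyL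
      TL := hTL, swap := hsw, gen := hgen, NH := hNH, N2 := hN, NL := hNL, Nn := hNn
      no := fun Q hQH hQ hQL hQn B hB hB2 =>
        no_of hML hK b hTH hT hsyl hcard hyL hTL hgen hQH hQ hQL hQn hB hB2 }
  have hno : ∀ B ≤ A, Nat.card B * Nat.card (cm y B) ≤ Nat.card W := fun B hB =>
    S.no N hNH hN (fun n hn v hv => by rw [hNL n hn v hv]; exact hv) hNn B (hB.trans hAN) fun b hb => hsq b (hB hb)
  have e1 : Nat.card {w : W // ∀ a ∈ A, a w = w} = Nat.card (cw A) := rfl
  rw [e1] at hle ⊢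
  have h1 : Nat.card (cw A) ≤ Nat.card (cms y A) := card_le_of_le cw_le_cms
  have h2 : Nat.card A * Nat.card (cms y A) ≤ Nat.card W := hno A le_rfl
  have h3 : Nat.card A * Nat.card (cw A) ≤ Nat.card A * Nat.card (cms y A) := Nat.mul_le_mul_left _ h1
  have hApos : 0 < Nat.card A := by
    have hfin : Finite (W ≃ₗ[ZMod 2] W) := DFunLike.finite _
    exact Nat.card_pos
  have h4 : Nat.card (cms y A) ≤ Nat.card (cw A) := by
    refine Nat.le_of_mul_le_mul_left ?_ hApos
    omega
  have h5 : cw A = cms y A := eq_of_le_card cw_le_cms h4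
  have hex : WEx y A := by
    refine ⟨?_, fun w hw => ?_⟩
    · show Nat.card A * Nat.card (cms y A) = Nat.card W
      omega
    · have : w ∈ cms y A := hw
      rw [← h5] at this
      exact this
  refine ⟨by omega, ?_⟩
  refine split b (hAN.trans hNH) hsq hex hno fun B hB hB1 hBe => ?_
  exact hP W H y T N B L S ⟨hB.trans hAN, fun a ha => hsq a (hB ha),
    fun a ha c hc w => hquad a (hB ha) c (hB hc) w, hBe⟩ hB1

/-- **`PTv` from `AtomTwo` and `TrSwap`** -/
theorem ptv_of (h1 : AtomTwo.{u}) (h2 : TrSwap.{u}) : PTv.{u} := by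
  intro W _ _ _ H y T N A L S X hne
  exact exists_tv_of S.base.y0 X.wex.ex hne (fun B hB hB' => h1 W H y T N A B L S X hB hB')
    fun g hg hg' => h2 W H y T N L S g (X.AN hg) hg'

/-- **(F1) for the leaf `TwoOne`** from (ML) and `PTv` -/
theorem fOneP_of (K : Frame.Cls.{u}) (hML : ML.Final.MLK.{u, u}) (hP : PTv.{u}) : NO3S.TwoOne.FOneP K :=
  FOne.Plug.fOneP K (psin_of hML hP)

end Cfsg.Agent.Omega.FOne.NOv

end

section


/-!
# (F1'), the K-route: the faithful section (helper854)

`Fs X y θ T B` : the output of THEOREM A + the REDUCTION (helper297 #20655) in additive form: `X ≤ GL(W)` fixes `y`,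
is faithful on `W / y`, `O₂(X) = 1`, `T` is a Sylow 2-subgroup of `X` with `C_W(T) = {0, y}` which swaps `θ` and `θ + y`,
`W / y = ⟨θ^X⟩`, `B ≤ T` is an exact atom of `W / y` with `|B| ≥ 4`, and `B ≤ O₂(R)` for all `T ≤ R < X`.

`Ps T B p y θ` : the same in multiplicative form, `p : W → M` with kernel `{1, y}`, with (nmax) : `T` is in at least two
maximal subgroups of `X`.
-/

set_option autoImplicit false
set_option linter.unusedSectionVars false

namespace Cfsg.Agent.Omega.FOne.Glue

open Subgroup Cfsg Cfsg.Agent.ZN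
open Cfsg.Agent.Omega.FOne.Tvw (Base z2 addself)
open Cfsg.Agent.Omega.FOne.NOv
open Cfsg.Agent.ClassTwoFusion.Quad

universe u v w

/-- **The faithful section**, additive form. -/
structure Fs {W : Type*} [AddCommGroup W] [Module (ZMod 2) W] (X : Subgroup (W ≃ₗ[ZMod 2] W)) (y θ : W)
    (T B : Subgroup (W ≃ₗ[ZMod 2] W)) : Prop where
  known : IsKGroupWith IsKnownSimple' X
  base : Base X y
  TX : T ≤ X
  two : IsPGroup 2 T
  syl : ¬ 2 ∣ T.relIndex X
  fixT : ∀ w, (∀ t ∈ T, t w = w) → w = 0 ∨ w = y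
  θ0 : θ ≠ 0
  θy : θ ≠ y
  Tθ : ∀ t ∈ T, t θ = θ ∨ t θ = θ + y
  swap : ∃ t ∈ T, t θ = θ + y
  gen : ∀ U : Submodule (ZMod 2) W, y ∈ U → (∀ x ∈ X, x θ ∈ U) → U = ⊤
  BT : B ≤ T
  sq : ∀ b ∈ B, b * b = 1
  quadM : ∀ a ∈ B, ∀ b ∈ B, ∀ w, b (a w + w) = a w + w ∨ b (a w + w) = a w + w + y
  atom : MAtom y B
  four : 4 ≤ Nat.card B
  low : ∀ R : Subgroup (W ≃ₗ[ZMod 2] W), T ≤ R → R ≤ X → R ≠ X → B ≤ o2 R

/-- **(LA)**, additive form: every `M`-atom of order `≥ 4` in `O₂(Z)`, `Z` the stabiliser of `θ` modulo `y`, is low -/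
def FsLa {W : Type*} [AddCommGroup W] [Module (ZMod 2) W] (X : Subgroup (W ≃ₗ[ZMod 2] W)) (y θ : W)
    (T : Subgroup (W ≃ₗ[ZMod 2] W)) : Prop :=
  ∀ Z : Subgroup (W ≃ₗ[ZMod 2] W), (∀ x, x ∈ Z ↔ x ∈ X ∧ (x θ = θ ∨ x θ = θ + y)) →
    ∀ B₁ : Subgroup (W ≃ₗ[ZMod 2] W), B₁ ≤ o2 Z → (∀ b ∈ B₁, b * b = 1) →
    (∀ a ∈ B₁, ∀ b ∈ B₁, ∀ w, b (a w + w) = a w + w ∨ b (a w + w) = a w + w + y) → MAtom y B₁ →
    4 ≤ Nat.card B₁ → ∀ R : Subgroup (W ≃ₗ[ZMod 2] W), T ≤ R → R ≤ X → R ≠ X → B₁ ≤ o2 R

/-- **The faithful section**, multiplicative form. -/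
structure Ps {X : Type u} [Group X] {M : Type v} [CommGroup M] [MulDistribMulAction X M] {W : Type w} [CommGroup W]
    [MulDistribMulAction X W] (T B : Subgroup X) (p : W →* M) (y θ : W) : Prop where
  known : IsKGroupWith IsKnownSimple' X
  sq : ∀ w : W, w * w = 1
  eqv : ∀ (x : X) (w : W), p (x • w) = x • p w
  surj : Function.Surjective p
  ker : ∀ w : W, p w = 1 ↔ w = 1 ∨ w = y
  y1 : y ≠ 1
  fixy : ∀ x : X, x • y = y
  faith : ∀ x : X, (∀ m : M, x • m = m) → x = 1
  core : ∀ N : Subgroup X, N.Normal → IsPGroup 2 N → N = ⊥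
  two : IsPGroup 2 T
  syl : ¬ 2 ∣ T.index
  fixT : ∀ w : W, (∀ t ∈ T, t • w = w) → w = 1 ∨ w = y
  Tθ : ∀ t ∈ T, t • p θ = p θ
  θ1 : p θ ≠ 1
  gen : ∀ U : Subgroup M, (∀ x : X, ∀ u ∈ U, x • u ∈ U) → p θ ∈ U → U = ⊤
  BT : B ≤ T
  el : ∀ b ∈ B, b * b = 1
  quad : ∀ a ∈ B, ∀ b ∈ B, ∀ m : M, b • ((a • m) * m⁻¹) = (a • m) * m⁻¹
  four : 4 ≤ Nat.card B
  exact : (cv M (B : Set X)).index = Nat.card B
  atom : ∀ C : Subgroup X, C ≤ B → C ≠ ⊥ → C ≠ B → Nat.card C < (cv M (C : Set X)).index
  low : ∀ R : Subgroup X, T ≤ R → R ≠ ⊤ → B ≤ o2 R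
  nmax : ¬ ∃ N : Subgroup X, N ≠ ⊤ ∧ ∀ R : Subgroup X, T ≤ R → R ≠ ⊤ → R ≤ N

section conv

variable {W : Type u} [AddCommGroup W] [Module (ZMod 2) W]

/-- `H` acts on `W`, written multiplicatively -/
@[reducible] def wact (H : Subgroup (W ≃ₗ[ZMod 2] W)) : MulDistribMulAction H (Multiplicative W) where
  smul h v := Multiplicative.ofAdd ((h : W ≃ₗ[ZMod 2] W) (Multiplicative.toAdd v))
  one_smul _ := rfl
  mul_smul _ _ _ := rfl
  smul_mul h v w := by
    change Multiplicative.ofAdd ((h : W ≃ₗ[ZMod 2] W) (Multiplicative.toAdd v + Multiplicative.toAdd w)) = _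
    rw [map_add]; rfl
  smul_one h := by
    change Multiplicative.ofAdd ((h : W ≃ₗ[ZMod 2] W) 0) = 1
    rw [map_zero]; rfl

/-- the projection `W → W / y` -/
def qp (y : W) : Multiplicative W →* QM y where
  toFun w := qm y (Multiplicative.toAdd w)
  map_one' := rfl
  map_mul' _ _ := rfl

end conv

end Cfsg.Agent.Omega.FOne.Glue

end

section


/-!
# (F1) for `q ≥ 4` from the case `q = 2`: the module `W / R₀`

`exists_quo` : `W / R₀` as an `𝔽₂`-space with `H`-action.
-/

set_option autoImplicit false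
set_option linter.unusedSectionVars false

namespace Cfsg.Agent.Omega.FOne.Q

open Subgroup Cfsg

universe u

section quo

variable {H W : Type u} [Group H] [CommGroup W] [MulDistribMulAction H W]

/-- the class of `w` modulo `R₀` -/
def pr (R₀ : Subgroup W) (w : W) : Additive (W ⧸ R₀) := Additive.ofMul (QuotientGroup.mk w)

theorem pr_surj (R₀ : Subgroup W) : Function.Surjective (pr R₀) := by
  intro x
  obtain ⟨w, hw⟩ := QuotientGroup.mk_surjective (Additive.toMul x)
  exact ⟨w, by rw [pr, hw]; rfl⟩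

theorem pr_mul (R₀ : Subgroup W) (a b : W) : pr R₀ (a * b) = pr R₀ a + pr R₀ b := rfl

theorem pr_eq_zero {R₀ : Subgroup W} {a : W} : pr R₀ a = 0 ↔ a ∈ R₀ := by
  have : pr R₀ a = 0 ↔ (QuotientGroup.mk a : W ⧸ R₀) = 1 := Iff.rfl
  rw [this, QuotientGroup.eq_one_iff]

/-- the action of `h` on `W / R₀` -/
def qh (R₀ : Subgroup W) (hR : ∀ h : H, ∀ r ∈ R₀, h • r = r) (h : H) : Additive (W ⧸ R₀) →+ Additive (W ⧸ R₀) :=
  MonoidHom.toAdditive (QuotientGroup.map R₀ R₀ (MulDistribMulAction.toMonoidHom W h)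
    fun r hr => by rw [mem_comap, MulDistribMulAction.toMonoidHom_apply, hR h r hr]; exact hr)

theorem qh_pr (R₀ : Subgroup W) (hR : ∀ h : H, ∀ r ∈ R₀, h • r = r) (h : H) (w : W) :
    qh R₀ hR h (pr R₀ w) = pr R₀ (h • w) := rfl

theorem exists_quo (sq : ∀ w : W, w * w = 1) (R₀ : Subgroup W) (hR : ∀ h : H, ∀ r ∈ R₀, h • r = r) :
    ∃ (W' : Type u) (_ : AddCommGroup W') (_ : Module (ZMod 2) W') (p : W → W') (ρ : H →* (W' ≃ₗ[ZMod 2] W')),
      Function.Surjective p ∧ (∀ a b, p (a * b) = p a + p b) ∧ (∀ a, p a = 0 ↔ a ∈ R₀) ∧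
        ∀ h a, ρ h (p a) = p (h • a) := by
  have h2 : ∀ x : Additive (W ⧸ R₀), 2 • x = 0 := by
    intro x
    obtain ⟨w, rfl⟩ := pr_surj R₀ x
    rw [two_nsmul, ← pr_mul, sq w]
    exact pr_eq_zero.2 (one_mem _)
  let _ : Module (ZMod 2) (Additive (W ⧸ R₀)) := AddCommGroup.zmodModule h2
  have hone : ∀ x, qh R₀ hR (1 : H) x = x := by
    intro x
    obtain ⟨w, rfl⟩ := pr_surj R₀ x
    rw [qh_pr, one_smul]
  have hmul : ∀ (g h : H) (x), qh R₀ hR (g * h) x = qh R₀ hR g (qh R₀ hR h x) := by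
    intro g h x
    obtain ⟨w, rfl⟩ := pr_surj R₀ x
    rw [qh_pr, qh_pr, qh_pr, mul_smul]
  let L : H → (Additive (W ⧸ R₀) ≃ₗ[ZMod 2] Additive (W ⧸ R₀)) := fun h =>
    { toFun := qh R₀ hR h
      map_add' := fun a b => map_add _ a b
      map_smul' := by
        intro c x
        rw [RingHom.id_apply]
        rcases Tvw.z2 c with rfl | rfl
        · rw [zero_smul, zero_smul, map_zero]
        · rw [one_smul, one_smul]
      invFun := qh R₀ hR h⁻¹
      left_inv := fun x => by rw [← hmul, inv_mul_cancel, hone]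
      right_inv := fun x => by rw [← hmul, mul_inv_cancel, hone] }
  let ρ : H →* (Additive (W ⧸ R₀) ≃ₗ[ZMod 2] Additive (W ⧸ R₀)) :=
    { toFun := L
      map_one' := by ext x; exact hone x
      map_mul' := fun g h => by ext x; exact hmul g h x }
  exact ⟨Additive (W ⧸ R₀), inferInstance, inferInstance, pr R₀, ρ, pr_surj R₀, pr_mul R₀,
    fun a => pr_eq_zero, fun h a => rfl⟩

end quo

end Cfsg.Agent.Omega.FOne.Q

end

section


/-!
# (F1) for `q ≥ 4` from the case `q = 2`: `PTv` for `W / R₀`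

* `Pre T N A R R₀ a y` : the multiplicative data: `H` acts on `W`, centralises `R`, is faithful on `W / R`, `R₀ < R` of
  index 2, `y ∈ R - R₀`, `a ∉ R` with `[a, T] = R`, `W = ⟨a^H⟩ R`, `C_{W / R₀}(T) ≤ R / R₀`, `A ≤ N` exact;
* `Pre.exists_tv` : some `g ∈ A#` centralises (modulo `R`) one of `v`, `w`, `v w` for all `v`, `w`.
-/

set_option autoImplicit false
set_option linter.unusedSectionVars false

namespace Cfsg.Agent.Omega.FOne.Q

open Subgroup Cfsg
open Cfsg.Agent.Omega.FOne.Tvw (Base IsTv z2 addself)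
open Cfsg.Agent.Omega.FOne.NOv
open Cfsg.Agent.ClassTwoFusion.Quad (cv mem_cv)

universe u

/-- the multiplicative data -/
structure Pre {H W : Type u} [Group H] [CommGroup W] [MulDistribMulAction H W] (T N A : Subgroup H)
    (R R₀ : Subgroup W) (a y : W) : Prop where
  known : IsKGroupWith IsKnownSimple' H
  finH : Finite H
  finW : Finite W
  sq : ∀ w : W, w * w = 1
  fixR : ∀ h : H, ∀ r ∈ R, h • r = r
  faith : ∀ h : H, (∀ w : W, (h • w) * w⁻¹ ∈ R) → h = 1
  two : IsPGroup 2 T
  ndvd : ¬ 2 ∣ T.index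
  R0R : R₀ ≤ R
  yR : y ∈ R
  y0 : y ∉ R₀
  idx : ∀ r ∈ R, r ∈ R₀ ∨ r * y ∈ R₀
  aR : a ∉ R
  act : ∀ t ∈ T, (t • a) * a⁻¹ ∈ R
  full : ∃ t ∈ T, t • a = a * y
  gen : ∀ U : Subgroup W, R ≤ U → (∀ h : H, h • a ∈ U) → U = ⊤
  fixT : ∀ w, (∀ t ∈ T, (t • w) * w⁻¹ ∈ R₀) → w ∈ R
  N2 : IsPGroup 2 N
  NL : ∀ n ∈ N, n • a = a
  Nn : ∀ h : H, (h • a) * a⁻¹ ∈ R → ∀ n ∈ N, h * n * h⁻¹ ∈ N
  AN : A ≤ N
  Ane : A ≠ ⊥
  Asq : ∀ x ∈ A, x * x = 1
  quad : ∀ x ∈ A, ∀ z ∈ A, ∀ w : W, z • ((x • w) * w⁻¹) = (x • w) * w⁻¹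
  ex : Nat.card A * Nat.card (cv W (A : Set H)) = Nat.card W
  fix : ∀ w : W, (∀ x ∈ A, (x • w) * w⁻¹ ∈ R) → ∀ x ∈ A, x • w = w

section card

variable {W W' : Type u} [CommGroup W] [AddCommGroup W'] [Finite W]

/-- `|U| = |R₀| |U / R₀|` -/
theorem card_of (p : W → W') (hps : Function.Surjective p) (hpm : ∀ a b, p (a * b) = p a + p b) {R₀ : Subgroup W}
    (hpk : ∀ a, p a = 0 ↔ a ∈ R₀) {U : Subgroup W} {S : Set W'} (hRU : R₀ ≤ U) (hS : ∀ w, w ∈ U ↔ p w ∈ S) :
    Nat.card U = Nat.card R₀ * Nat.card S := by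
  let f : U →* Multiplicative W' := MonoidHom.mk' (fun u => Multiplicative.ofAdd (p u)) fun a b => by
    show Multiplicative.ofAdd (p (a * b)) = _
    rw [hpm]; rfl
  have h1 := Subgroup.card_mul_index f.ker
  rw [Subgroup.index_ker] at h1
  have h2 : Nat.card f.ker = Nat.card R₀ := by
    refine Nat.card_congr ⟨fun x => ⟨x, ?_⟩, fun x => ⟨⟨x, hRU x.2⟩, ?_⟩, fun x => rfl, fun x => rfl⟩
    · exact (hpk _).1 x.2
    · exact (hpk _).2 x.2
  have h3 : Nat.card f.range = Nat.card S := by
    refine Nat.card_congr ⟨fun x => ⟨Multiplicative.toAdd x.1, ?_⟩, fun x => ⟨Multiplicative.ofAdd x.1, ?_⟩,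
      fun x => rfl, fun x => rfl⟩
    · obtain ⟨u, hu⟩ := x.2
      rw [← hu]
      exact (hS _).1 u.2
    · obtain ⟨w, hw⟩ := hps x.1
      exact ⟨⟨w, (hS w).2 (by rw [hw]; exact x.2)⟩, by
        show Multiplicative.ofAdd (p w) = _
        rw [hw]⟩
  rw [← h1, h2, h3]

end card

variable {H W : Type u} [Group H] [CommGroup W] [MulDistribMulAction H W] {T N A : Subgroup H}
  {R R₀ : Subgroup W} {a y : W}

/-- a normal 2-subgroup is contained in `T` -/
theorem le_of_normal [Finite H] (two : IsPGroup 2 T) (ndvd : ¬ 2 ∣ T.index) {N : Subgroup H} (hN : N.Normal)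
    (hp : IsPGroup 2 N) : N ≤ T := by
  have : Fact (Nat.Prime 2) := ⟨Nat.prime_two⟩
  have h1 : IsPGroup 2 (T ⊔ N : Subgroup H) := two.to_sup_of_normal_right hp
  have h2 : T ⊔ N = T := (two.toSylow ndvd).is_maximal' h1 le_sup_left
  calc N ≤ T ⊔ N := le_sup_right
    _ = T := h2

theorem Pre.exists_tv (hML : ML.Final.MLK.{u, u}) (hP : PTv.{u}) (P : Pre T N A R R₀ a y) :
    ∃ g ∈ A, g ≠ 1 ∧ ∀ v w : W, (g • v) * v⁻¹ ∈ R ∨ (g • w) * w⁻¹ ∈ R ∨ (g • (v * w)) * (v * w)⁻¹ ∈ R := by
  classical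
  have hfH := P.finH
  have hfW := P.finW
  obtain ⟨W', i1, i2, p, ρ, hps, hpm, hpk, hρ⟩ := exists_quo P.sq R₀ fun h r hr => P.fixR h r (P.R0R hr)
  have hfW' : Finite W' := Finite.of_surjective p hps
  have hfL : Finite (W' ≃ₗ[ZMod 2] W') := DFunLike.finite _
  have hp1 : p 1 = 0 := (hpk 1).2 (one_mem _)
  have hpi : ∀ w, p w⁻¹ = p w := by
    intro w
    have h1 : w⁻¹ = w := inv_eq_of_mul_eq_one_left (P.sq w)
    rw [h1]
  have y0 : p y ≠ 0 := fun h => P.y0 ((hpk y).1 h)
  have pR : ∀ w, w ∈ R ↔ p w = 0 ∨ p w = p y := by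
    intro w
    constructor
    · intro hw
      rcases P.idx w hw with h | h
      · exact Or.inl ((hpk w).2 h)
      · right
        have h1 := (hpk _).2 h
        rw [hpm] at h1
        exact Tvw.eq_of_add_eq_zero' h1
    · rintro (h | h)
      · exact P.R0R ((hpk w).1 h)
      · have h1 : p (w * y) = 0 := by rw [hpm, h, addself]
        have h2 := R.mul_mem (P.R0R ((hpk _).1 h1)) (R.inv_mem P.yR)
        rwa [mul_inv_cancel_right] at h2
  have pd : ∀ w w', w' * w⁻¹ ∈ R ↔ p w' = p w ∨ p w' = p w + p y := by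
    intro w w'
    rw [pR, hpm, hpi]
    constructor
    · rintro (h | h)
      · exact Or.inl (Tvw.eq_of_add_eq_zero' h)
      · right
        rw [← h]
        have := addself (p w)
        calc p w' = (p w + p w) + p w' := by rw [this, zero_add]
          _ = _ := by abel
    · rintro (h | h)
      · left; rw [h, addself]
      · right; rw [h]
        have := addself (p w)
        calc p w + p y + p w = (p w + p w) + p y := by abel
          _ = _ := by rw [this, zero_add]
  have pd0 : ∀ w w', w' * w⁻¹ ∈ R₀ ↔ p w' = p w := by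
    intro w w'
    rw [← hpk, hpm, hpi]
    constructor
    · intro h; exact Tvw.eq_of_add_eq_zero' h
    · intro h; rw [h, addself]
  have hinj : Function.Injective ρ := by
    rw [injective_iff_map_eq_one]
    intro h hh
    refine P.faith h fun w => P.R0R ?_
    rw [pd0, ← hρ, hh]
    rfl
  have hy : ∀ h : H, ρ h (p y) = p y := fun h => by rw [hρ, P.fixR h y P.yR]
  -- `H` fixes nothing but `R` in `a R`
  have a0 : p a ≠ 0 := fun h => P.aR (P.R0R ((hpk a).1 h))
  have ay : p a ≠ p y := fun h => P.aR ((pR a).2 (Or.inr h))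
  have hpt : ∀ t ∈ T, ρ t (p a) = p a ∨ ρ t (p a) = p a + p y := by
    intro t ht
    rw [hρ]
    exact (pd _ _).1 (P.act t ht)
  have hgen : ∀ U : Subgroup W, R ≤ U → (∀ h : H, h • a ∈ U) → ∀ w, w ∈ U := by
    intro U h1 h2 w
    rw [P.gen U h1 h2]
    exact mem_top w
  have b : Base ρ.range (p y) := by
    refine ⟨y0, ?_, ?_, ?_⟩
    · rintro _ ⟨h, rfl⟩
      exact hy h
    · rintro _ ⟨h, rfl⟩ h1
      have h2 : h = 1 := P.faith h fun w => by
        rw [pd, ← hρ]
        exact h1 (p w)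
      rw [h2, map_one]
    · intro N₀ hN₀ hn hp
      have hN1 : (N₀.comap ρ).Normal := ⟨fun x hx g => by
        rw [mem_comap, map_mul, map_mul, map_inv]
        exact hn _ ⟨g, rfl⟩ _ hx⟩
      have hN2 : IsPGroup 2 (N₀.comap ρ) := hp.comap_of_injective ρ hinj
      have hNT := le_of_normal P.two P.ndvd hN1 hN2
      rw [eq_bot_iff]
      intro φ hφ
      obtain ⟨g, rfl⟩ := hN₀ hφ
      rw [mem_bot]
      have hg : g = 1 := by
        refine P.faith g fun w => ?_
        let U : Subgroup W :=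
          { carrier := {w | ∀ x ∈ N₀.comap ρ, (x • w) * w⁻¹ ∈ R}
            one_mem' := fun x _ => by rw [smul_one, mul_inv_cancel]; exact one_mem _
            mul_mem' := by
              intro v w hv hw x hx
              have e : (x • (v * w)) * (v * w)⁻¹ = ((x • v) * v⁻¹) * ((x • w) * w⁻¹) := by
                rw [smul_mul', mul_inv_rev]
                calc x • v * x • w * (w⁻¹ * v⁻¹) = x • v * (x • w * w⁻¹) * v⁻¹ := by group
                  _ = _ := by rw [mul_assoc, mul_comm (x • w * w⁻¹) v⁻¹, mul_assoc]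
              rw [e]
              exact R.mul_mem (hv x hx) (hw x hx)
            inv_mem' := by
              intro w hw x hx
              have e : (x • w⁻¹) * w⁻¹⁻¹ = ((x • w) * w⁻¹)⁻¹ := by
                rw [smul_inv', inv_inv, mul_inv_rev, inv_inv, mul_comm]
              rw [e]
              exact R.inv_mem (hw x hx) }
        have hU := hgen U ?_ ?_ w
        · exact hU g hφ
        · intro r hr x _
          rw [P.fixR x r hr, mul_inv_cancel]; exact one_mem _
        · intro h x hx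
          have h1 : h⁻¹ * x * h ∈ T := hNT (by
            have := hN1.conj_mem x hx h⁻¹
            rwa [inv_inv] at this)
          have h2 := P.act _ h1
          have h3 : h • ((h⁻¹ * x * h) • a * a⁻¹) = (x • h • a) * (h • a)⁻¹ := by
            rw [smul_mul', ← mul_smul, smul_inv', ← mul_smul]
            congr 2; group
          rw [← h3, P.fixR h _ h2]
          exact h2
      rw [hg, map_one]
  -- the line
  let L : Submodule (ZMod 2) W' :=
    { carrier := {v | v = 0 ∨ v = p y ∨ v = p a ∨ v = p a + p y}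
      zero_mem' := Or.inl rfl
      add_mem' := by
        have e1 := addself (p y)
        have e2 := addself (p a)
        rintro v w (rfl | rfl | rfl | rfl) (rfl | rfl | rfl | rfl)
        · left; simp
        · right; left; simp
        · right; right; left; simp
        · right; right; right; simp
        · right; left; simp
        · left; exact e1
        · right; right; right; exact add_comm _ _
        · right; right; left
          calc p y + (p a + p y) = p a + (p y + p y) := by abel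
            _ = p a := by rw [e1, add_zero]
        · right; right; left; simp
        · right; right; right; rfl
        · left; exact e2
        · right; left
          calc p a + (p a + p y) = (p a + p a) + p y := by abel
            _ = p y := by rw [e2, zero_add]
        · right; right; right; simp
        · right; right; left
          calc p a + p y + p y = p a + (p y + p y) := by abel
            _ = p a := by rw [e1, add_zero]
        · right; left
          calc p a + p y + p a = (p a + p a) + p y := by abel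
            _ = p y := by rw [e2, zero_add]
        · left
          calc p a + p y + (p a + p y) = (p a + p a) + (p y + p y) := by abel
            _ = 0 := by rw [e1, e2, add_zero]
      smul_mem' := by
        intro c x hx
        rcases z2 c with rfl | rfl
        · rw [zero_smul]; exact Or.inl rfl
        · rw [one_smul]; exact hx }
  have hL : ∀ v, v ∈ L ↔ v = 0 ∨ v = p y ∨ v = p a ∨ v = p a + p y := fun _ => Iff.rfl
  have hcard : Nat.card L = 4 := by
    have h1 : (L : Set W') = (({0, p y, p a, p a + p y} : Finset W') : Set W') := by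
      ext x
      simp only [SetLike.mem_coe, hL, Finset.coe_insert, Finset.coe_singleton, Set.mem_insert_iff,
        Set.mem_singleton_iff]
    have h2 : Nat.card L = (L : Set W').ncard := rfl
    rw [h2, h1, Set.ncard_coe_finset]
    have n1 : (0 : W') ∉ ({p y, p a, p a + p y} : Finset W') := by
      simp only [Finset.mem_insert, Finset.mem_singleton]
      rintro (h | h | h)
      · exact y0 h.symm
      · exact a0 h.symm
      · exact ay (Tvw.eq_of_add_eq_zero' h.symm)
    have n2 : p y ∉ ({p a, p a + p y} : Finset W') := by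
      simp only [Finset.mem_insert, Finset.mem_singleton]
      rintro (h | h)
      · exact ay h.symm
      · exact a0 (by simpa using h.symm)
    have n3 : p a ∉ ({p a + p y} : Finset W') := by
      simp only [Finset.mem_singleton]
      intro h
      exact y0 (by simpa using h.symm)
    rw [Finset.card_insert_of_notMem n1, Finset.card_insert_of_notMem n2, Finset.card_insert_of_notMem n3,
      Finset.card_singleton]
  have hyL : p y ∈ L := Or.inr (Or.inl rfl)
  have haL : p a ∈ L := Or.inr (Or.inr (Or.inl rfl))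
  have hTL : ∀ t ∈ T.map ρ, ∀ v ∈ L, t v ∈ L := by
    rintro _ ⟨t, ht, rfl⟩ v hv
    have h1 : ρ t (p a) ∈ L := by
      rcases hpt t ht with h | h <;> rw [h]
      · exact haL
      · exact L.add_mem haL hyL
    rcases (hL v).1 hv with rfl | rfl | rfl | rfl
    · rw [map_zero]; exact L.zero_mem
    · rw [hy]; exact hyL
    · exact h1
    · rw [map_add, hy]; exact L.add_mem h1 hyL
  have hTH : T.map ρ ≤ ρ.range := by
    rintro _ ⟨t, -, rfl⟩; exact ⟨t, rfl⟩
  have hsyl : ¬ 2 ∣ (T.map ρ).relIndex ρ.range := by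
    rw [MonoidHom.range_eq_map, relIndex_map_map_of_injective _ _ hinj, relIndex_top_right]
    exact P.ndvd
  have hK : IsKGroupWith IsKnownSimple' ρ.range :=
    ML.Final.kgroup_of_surj P.known (⊤ : Subgroup H) (ρ.rangeRestrict.comp (⊤ : Subgroup H).subtype) (by
      intro x
      obtain ⟨h, rfl⟩ := ρ.rangeRestrict_surjective x
      exact ⟨⟨h, mem_top h⟩, rfl⟩)
  have hgen' : ∀ U : Submodule (ZMod 2) W', (∀ h ∈ ρ.range, ∀ v ∈ L, h v ∈ U) → U = ⊤ := by
    intro U hU
    rw [eq_top_iff]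
    intro w _
    obtain ⟨w, rfl⟩ := hps w
    let U' : Subgroup W :=
      { carrier := {w | p w ∈ U}
        one_mem' := by
          change p 1 ∈ U
          rw [hp1]; exact U.zero_mem
        mul_mem' := by
          intro v w hv hw
          change p (v * w) ∈ U
          rw [hpm]; exact U.add_mem hv hw
        inv_mem' := by
          intro v hv
          change p v⁻¹ ∈ U
          rw [hpi]; exact hv }
    refine hgen U' ?_ ?_ w
    · intro r hr
      change p r ∈ U
      rcases (pR r).1 hr with h | h <;> rw [h]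
      · exact U.zero_mem
      · exact hU 1 (one_mem _) _ hyL
    · intro h
      change p (h • a) ∈ U
      rw [← hρ]
      exact hU _ ⟨h, rfl⟩ _ haL
  have hfixT : ∀ w : W', (∀ t ∈ T.map ρ, t w = w) → w = 0 ∨ w = p y := by
    intro w hw
    obtain ⟨w, rfl⟩ := hps w
    rw [← pR]
    refine P.fixT w fun t ht => ?_
    rw [pd0, ← hρ]
    exact hw _ ⟨t, ht, rfl⟩
  have S : Sw ρ.range (p y) (T.map ρ) (N.map ρ) L :=
    { known := hK, base := b, TH := hTH, two := P.two.map ρ, syl := hsyl, fixT := hfixT, card := hcard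
      yL := hyL, TL := hTL
      swap := by
        obtain ⟨t, ht, e⟩ := P.full
        have h1 : ρ t (p a) = p a + p y := by rw [hρ, e, hpm]
        intro v hv v0 vy
        refine ⟨ρ t, ⟨t, ht, rfl⟩, ?_⟩
        rcases (hL v).1 hv with rfl | rfl | rfl | rfl
        · exact absurd rfl v0
        · exact absurd rfl vy
        · exact h1
        · rw [map_add, h1, hy]
      gen := hgen'
      NH := by rintro _ ⟨t, -, rfl⟩; exact ⟨t, rfl⟩
      N2 := P.N2.map ρ
      NL := by
        rintro _ ⟨n, hn, rfl⟩ v hv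
        have h1 : ρ n (p a) = p a := by rw [hρ, P.NL n hn]
        rcases (hL v).1 hv with rfl | rfl | rfl | rfl
        · rw [map_zero]
        · rw [hy]
        · exact h1
        · rw [map_add, h1, hy]
      Nn := by
        rintro _ ⟨h, rfl⟩ hh _ ⟨n, hn, rfl⟩
        refine ⟨h * n * h⁻¹, P.Nn h ?_ n hn, by rw [map_mul, map_mul, map_inv]⟩
        have h1 := hh _ haL
        rw [hρ] at h1
        have h2 : h • a ∉ R := by
          intro hr
          have h3 := P.fixR h⁻¹ _ hr
          rw [inv_smul_smul] at h3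
          rw [← h3] at hr
          exact P.aR hr
        rw [pR] at h2
        push Not at h2
        rw [pd]
        rcases (hL _).1 h1 with e | e | e | e
        · exact absurd e h2.1
        · exact absurd e h2.2
        · exact Or.inl e
        · exact Or.inr e
      no := fun Q hQH hQ hQL hQn B hB hB2 =>
        no_of hML hK b hTH (P.two.map ρ) hsyl hcard hyL hTL hgen' hQH hQ hQL hQn hB hB2 }
  have hcm : ∀ w, w ∈ cv W (A : Set H) ↔ p w ∈ cm (p y) (A.map ρ) := by
    intro w
    constructor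
    · rintro hw _ ⟨x, hx, rfl⟩
      left
      rw [hρ, mem_cv.1 hw x hx]
    · intro hw
      rw [mem_cv]
      refine P.fix w fun x hx => ?_
      rw [pd, ← hρ]
      exact hw _ ⟨x, hx, rfl⟩
  have hR0c : R₀ ≤ cv W (A : Set H) := fun r hr => mem_cv.2 fun x _ => P.fixR x r (P.R0R hr)
  have e1 := card_of p hps hpm hpk hR0c hcm
  have e2 := card_of p hps hpm hpk (U := ⊤) (S := Set.univ) le_top fun w => ⟨fun _ => trivial, fun _ => mem_top _⟩
  have e3 : Nat.card (A.map ρ) = Nat.card A := card_map_of_injective hinj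
  have hex : MEx (p y) (A.map ρ) := by
    have h1 := P.ex
    rw [e1] at h1
    rw [card_top, Nat.card_univ] at e2
    rw [e2] at h1
    show Nat.card (A.map ρ) * Nat.card (cm (p y) (A.map ρ)) = Nat.card W'
    rw [e3]
    have hpos : 0 < Nat.card R₀ := Nat.card_pos
    refine Nat.eq_of_mul_eq_mul_left hpos ?_
    rw [← h1]; ring
  have X : Ax (p y) (N.map ρ) (A.map ρ) := by
    refine ⟨map_mono P.AN, ?_, ?_, hex, ?_⟩
    · rintro _ ⟨x, hx, rfl⟩
      rw [← map_mul, P.Asq x hx, map_one]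
    · rintro _ ⟨x, hx, rfl⟩ _ ⟨z, hz, rfl⟩ w
      obtain ⟨w, rfl⟩ := hps w
      have h1 : ρ x (p w) + p w = p ((x • w) * w⁻¹) := by rw [hρ, hpm, hpi]
      rw [h1, hρ, P.quad x hx z hz]
    · intro w hw _ ⟨x, hx, e⟩
      obtain ⟨w, rfl⟩ := hps w
      rw [← e, hρ]
      rw [mem_cv.1 ((hcm w).2 hw) x hx]
  obtain ⟨_, ⟨g, hg, rfl⟩, θ, f, d, hθ0, hθy, hf, hgw, -⟩ :=
    hP W' ρ.range (p y) (T.map ρ) (N.map ρ) (A.map ρ) L S X (by
      intro h
      rw [map_eq_bot_iff_of_injective _ hinj] at h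
      exact P.Ane h)
  refine ⟨g, hg, ?_, ?_⟩
  · rintro rfl
    apply hf
    ext w
    rcases z2 (f w) with h | h
    · exact h
    · exfalso
      have h1 := hgw w
      rw [map_one, h, one_smul] at h1
      change w = _ at h1
      rcases z2 (d w) with h2 | h2
      · rw [h2, zero_smul, add_zero] at h1
        exact hθ0 (by simpa using h1.symm)
      · rw [h2, one_smul, add_assoc] at h1
        have h3 : θ + p y = 0 := by simpa using h1.symm
        exact hθy (Tvw.eq_of_add_eq_zero' h3)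
  · have key : ∀ w, f (p w) = 0 → (g • w) * w⁻¹ ∈ R := by
      intro w hw
      rw [pd, ← hρ, hgw, hw, zero_smul, add_zero]
      rcases z2 (d (p w)) with h2 | h2 <;> rw [h2]
      · left; rw [zero_smul, add_zero]
      · right; rw [one_smul]
    intro v w
    rcases z2 (f (p v)) with h1 | h1
    · exact Or.inl (key v h1)
    · rcases z2 (f (p w)) with h2 | h2
      · exact Or.inr (Or.inl (key w h2))
      · refine Or.inr (Or.inr (key _ ?_))
        rw [hpm, map_add, h1, h2]
        rfl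

end Cfsg.Agent.Omega.FOne.Q

end

section


/-!
# (F1) for `q ≥ 4` from the case `q = 2` (bb OMEGA #21680, THEOREM Q)

`H` acts on `W`, centralises `R`, `π : W → M` is onto with kernel `R`, `lam = V / R` of order `≥ 4` is fixed by the Sylow
group `T`, `[v, T] = R` for `v ∈ V - R` (`full`), `C_M(T) ≤ lam` (`fixM`).

* `exists_index_two` : `R₀ < R` of index 2;
* **`false_of`** : no exact quadratic `A ≠ 1` in `O₂(C_H(lam))` which centralises `V`, if (ML) and `PTv` (the case
  `q = 2`) hold.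
-/

set_option autoImplicit false
set_option linter.unusedSectionVars false

namespace Cfsg.Agent.Omega.FOne.Q

open Subgroup Cfsg
open Cfsg.Agent.Omega.FOne.NOv (PTv)
open Cfsg.Agent.ClassTwoFusion.Quad (cv mem_cv)
open Cfsg.Agent.Omega.NO3S.FarQ (FlagK Exact zm fixer)
open Cfsg.Agent.Omega.NO3S.FarQ.FOneAbs (Dat)
open Cfsg.Agent.Omega.ML.MinFrame (orb fxr)
open Cfsg.Agent.ZN (o2)
open Cfsg.Agent.MinSimple.VModule (o2_le o2_isPGroup le_normalizer_o2)

universe u

/-- a complement of order two -/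
theorem exists_index_two {W : Type*} [CommGroup W] [Finite W] (sq : ∀ w : W, w * w = 1) (R : Subgroup W) {y : W}
    (y1 : y ≠ 1) : ∃ R₀ ≤ R, y ∉ R₀ ∧ ∀ r ∈ R, r ∈ R₀ ∨ r * y ∈ R₀ := by
  classical
  obtain ⟨R₀, hR₀⟩ := (Set.toFinite {X : Subgroup W | X ≤ R ∧ y ∉ X}).exists_maximal
    ⟨⊥, bot_le, fun h => y1 (mem_bot.1 h)⟩
  refine ⟨R₀, hR₀.prop.1, hR₀.prop.2, fun r hr => ?_⟩
  by_contra hcon
  push Not at hcon
  obtain ⟨h1, h2⟩ := hcon
  let X : Subgroup W :=
    { carrier := {x | x ∈ R₀ ∨ x * r ∈ R₀}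
      one_mem' := Or.inl (one_mem _)
      mul_mem' := by
        rintro a b (ha | ha) (hb | hb)
        · exact Or.inl (mul_mem ha hb)
        · right; rw [mul_assoc]; exact mul_mem ha hb
        · right
          have e : a * b * r = a * r * b := by rw [mul_assoc, mul_comm b r, ← mul_assoc]
          rw [e]; exact mul_mem ha hb
        · left
          have e : a * b = a * r * (b * r) := by
            calc a * b = a * b * (r * r) := by rw [sq, mul_one]
              _ = _ := by rw [mul_assoc a r, ← mul_assoc r b, mul_comm r b, mul_assoc b, mul_assoc a b]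
          rw [e]; exact mul_mem ha hb
      inv_mem' := by
        intro a ha
        have e : a⁻¹ = a := inv_eq_of_mul_eq_one_left (sq a)
        rw [e]; exact ha }
  have hXR : X ≤ R := by
    rintro x (hx | hx)
    · exact hR₀.prop.1 hx
    · have := R.mul_mem (hR₀.prop.1 hx) (R.inv_mem hr)
      rwa [mul_inv_cancel_right] at this
  have hX : X = R₀ ∨ y ∈ X := by
    by_contra h
    push Not at h
    exact h.1 (le_antisymm (hR₀.le_of_ge (y := X) ⟨hXR, h.2⟩ fun x hx => Or.inl hx) fun x hx => Or.inl hx)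
  rcases hX with h | h
  · apply h1
    rw [← h]
    right
    rw [sq]; exact one_mem _
  · rcases h with h | h
    · exact hR₀.prop.2 h
    · exact h2 (by rwa [mul_comm])

variable {H W M : Type u} [Group H] [CommGroup W] [MulDistribMulAction H W] [CommGroup M]
  [MulDistribMulAction H M]

/-- The hypotheses. -/
structure Hyp (T A : Subgroup H) (V R : Subgroup W) (π : W →* M) : Prop where
  known : IsKGroupWith IsKnownSimple' H
  finW : Finite W
  sq : ∀ w : W, w * w = 1
  surj : Function.Surjective π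
  dat : Dat T V R π
  flag : FlagK T (V.map π)
  full : ∀ v ∈ V, v ∉ R → ∀ r ∈ R, ∃ t ∈ T, (t • v) * v⁻¹ = r
  fixM : ∀ w : W, (∀ t ∈ T, (t • w) * w⁻¹ ∈ R) → w ∈ V
  ex : Exact (V.map π) A
  AV : ∀ x ∈ A, ∀ v ∈ V, x • v = v
  fix : ∀ w : W, (∀ x ∈ A, x • π w = π w) → ∀ x ∈ A, x • w = w

/-- **THEOREM Q, abstract form** -/
theorem false_of (hML : ML.Final.MLK.{u, u}) (hP : PTv.{u}) {T A : Subgroup H} {V R : Subgroup W} {π : W →* M}
    (P : Hyp T A V R π) : False := by
  classical
  have hfW := P.finW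
  have D := P.dat
  have F := P.flag
  have hfH := F.finH
  have hfM := F.finM
  -- `R` is centralised, `π` is equivariant
  have hcm : ∀ (x : H) (w : W), (x • w) * w⁻¹ ∈ R ↔ x • π w = π w := by
    intro x w
    rw [← D.ker, map_mul, map_inv, D.equi, mul_inv_eq_one]
  have hlm : ∀ v ∈ V, π v ∈ V.map π := fun v hv => mem_map_of_mem π hv
  have hlin : ∀ (h : H) (v : W), v ∈ V → v ∉ R → h • π v = π v → ∀ b ∈ V.map π, h • b = b := by
    intro h v hv hvR e
    exact F.lin _ (hlm v hv) (fun e1 => hvR ((D.ker v).1 e1)) h e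
  -- an element fixing one vector of `lam ^ g` fixes all of them
  have hlin' : ∀ (x g : H) (v : W), v ∈ V → v ∉ R → x • g • π v = g • π v → ∀ b ∈ V.map π, x • g • b = g • b := by
    intro x g v hv hvR e b hb
    have h1 : (g⁻¹ * x * g) • π v = π v := by
      rw [mul_smul, mul_smul, e, inv_smul_smul]
    have h2 := hlin _ v hv hvR h1 b hb
    rw [mul_smul, mul_smul, inv_smul_eq_iff] at h2
    exact h2
  have htriv : ∀ x : H, (∀ g : H, ∀ b ∈ V.map π, x • g • b = g • b) → x = 1 := by
    intro x hx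
    refine F.faith x fun m => ?_
    let N : Subgroup M :=
      { carrier := {m | x • m = m}
        one_mem' := smul_one x
        mul_mem' := fun {a b} ha hb => by
          change x • (a * b) = a * b
          rw [smul_mul', ha, hb]
        inv_mem' := fun {a} ha => by
          change x • a⁻¹ = a⁻¹
          rw [smul_inv', ha] }
    have hN := F.gen N fun h a ha => hx h a ha
    have : m ∈ N := by rw [hN]; exact mem_top m
    exact this
  -- a vector `a ∈ V - R`
  obtain ⟨t₀, ht₀, a, ha, hta⟩ := D.ne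
  have haR : a ∉ R := fun h => hta (D.fixR t₀ a h)
  have hya : (t₀ • a) * a⁻¹ ∈ R := D.act t₀ ht₀ a ha
  set y := (t₀ • a) * a⁻¹ with hyd
  have y1 : y ≠ 1 := fun h => hta (mul_inv_eq_one.1 h)
  obtain ⟨R₀, hR₀, hy0, hidx⟩ := exists_index_two P.sq R y1
  -- the module of `a`
  set Ma : Subgroup M := orb (⊤ : Subgroup H) (π a) with hMa
  set U : Subgroup W := Ma.comap π with hU
  have hMaH : ∀ (h : H), ∀ m ∈ Ma, h • m ∈ Ma := by
    intro h m hm
    have h1 : Ma ≤ Ma.comap (MulDistribMulAction.toMonoidHom M h) := by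
      rw [hMa, orb, closure_le]
      rintro _ ⟨g, -, rfl⟩
      change h • g • π a ∈ orb (⊤ : Subgroup H) (π a)
      rw [← mul_smul]
      exact subset_closure ⟨h * g, mem_top _, rfl⟩
    exact h1 hm
  have hUH : ∀ (h : H), ∀ w ∈ U, h • w ∈ U := by
    intro h w hw
    rw [hU, mem_comap, D.equi]
    exact hMaH h _ hw
  have hRU : R ≤ U := by
    intro r hr
    rw [hU, mem_comap, (D.ker r).2 hr]
    exact one_mem _
  have hgaU : ∀ h : H, h • a ∈ U := by
    intro h
    rw [hU, mem_comap, D.equi]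
    exact subset_closure ⟨h, mem_top _, rfl⟩
  -- `A` is exact on `Ma`
  set lam := V.map π with hlam
  have hno : Nat.card A ≤ (zm M A).relIndex Ma := by
    have Dd : ML.Final.Dat (C := H) (V := M) T (o2 (fixer lam)) A (π a) := by
      refine ⟨F.sq, F.two, F.ndvd, ?_, ?_, ?_, ?_, ?_, ?_⟩
      · intro t ht
        exact F.fix t ht _ (hlm a ha)
      · intro q hq
        obtain ⟨n, hn⟩ := (o2_isPGroup (fixer lam : Subgroup H)) ⟨q, hq⟩
        have h1 : q ^ 2 ^ n = 1 := congrArg Subtype.val hn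
        exact ⟨n, fun v => by rw [h1, one_smul]⟩
      · intro q hq
        exact o2_le _ hq _ (hlm a ha)
      · intro g hg q hq
        refine ⟨g * q * g⁻¹, ?_, fun _ => rfl⟩
        have hg' : g ∈ (fixer lam : Subgroup H) := hlin g a ha haR hg
        exact (mem_normalizer_iff.1 (le_normalizer_o2 _ hg') q).1 hq
      · intro x hx
        exact ⟨x, P.ex.le hx, fun _ => rfl⟩
      · intro x hx v
        rw [← mul_smul, P.ex.sq x hx, one_smul]
    have h1 := hML.act P.known Dd
    have h2 : fxr H (orb (⊤ : Subgroup H) (π a)) = ⊥ := by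
      rw [eq_bot_iff]
      intro x hx
      rw [mem_bot]
      refine htriv x fun g b hb => hlin' x g a ha haR ?_ b hb
      exact hx _ (subset_closure ⟨g, mem_top _, rfl⟩)
    rw [h2, relIndex_bot_left] at h1
    exact h1
  have hidxM : (zm M A).index ≠ 0 := index_ne_zero_of_finite
  have hrel : (zm M A).relIndex (Ma ⊔ zm M A) = (zm M A).relIndex Ma := relIndex_sup_right _ _
  have hmul : (zm M A).relIndex (Ma ⊔ zm M A) * (Ma ⊔ zm M A).index = (zm M A).index :=
    relIndex_mul_index le_sup_right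
  rw [hrel] at hmul
  have hone : (Ma ⊔ zm M A).index = 1 := by
    have h1 := P.ex.card
    have h2 : 0 < (Ma ⊔ zm M A).index := Nat.pos_of_ne_zero index_ne_zero_of_finite
    by_contra h3
    have h4 : 2 ≤ (Ma ⊔ zm M A).index := by omega
    have h5 : (zm M A).relIndex Ma * 2 ≤ (zm M A).index := by rw [← hmul]; exact Nat.mul_le_mul_left _ h4
    omega
  have hsup : Ma ⊔ zm M A = ⊤ := index_eq_one.1 hone
  have hcardA : Nat.card A = (zm M A).relIndex Ma := by
    rw [hone, mul_one] at hmul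
    rw [hmul]; exact P.ex.card
  -- the action on `U`
  let _ : MulDistribMulAction H U :=
    { smul := fun h w => ⟨h • (w : W), hUH h w w.2⟩
      one_smul := fun w => Subtype.ext (one_smul H (w : W))
      mul_smul := fun g h w => Subtype.ext (mul_smul g h (w : W))
      smul_mul := fun h v w => Subtype.ext (smul_mul' h (v : W) (w : W))
      smul_one := fun h => Subtype.ext (smul_one h) }
  have hsm : ∀ (h : H) (w : U), ((h • w : U) : W) = h • (w : W) := fun _ _ => rfl
  -- the group `N`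
  let N : Subgroup H := o2 (fixer lam) ⊓ fixer V
  have hAN : A ≤ N := fun x hx => ⟨P.ex.le hx, fun v hv => P.AV x hx v hv⟩
  have hfixU : ∀ w ∈ U, w ∈ R ∨ w ∉ R := fun w _ => em _
  have pre : Pre T N A (R.subgroupOf U) (R₀.subgroupOf U) (⟨a, by
      have := hgaU 1
      rwa [one_smul] at this⟩ : U) (⟨y, hRU hya⟩ : U) := by
    refine
      { known := P.known
        finH := hfH
        finW := inferInstance
        sq := fun w => Subtype.ext (P.sq w)
        fixR := fun h r hr => Subtype.ext (D.fixR h r hr)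
        faith := ?_
        two := F.two
        ndvd := F.ndvd
        R0R := fun r hr => hR₀ hr
        yR := hya
        y0 := hy0
        idx := fun r hr => hidx r hr
        aR := haR
        act := fun t ht => D.act t ht a ha
        full := ⟨t₀, ht₀, Subtype.ext (by
          change t₀ • a = a * y
          rw [hyd, mul_comm, inv_mul_cancel_right])⟩
        gen := ?_
        fixT := ?_
        N2 := ?_
        NL := ?_
        Nn := ?_
        AN := hAN
        Ane := P.ex.ne
        Asq := P.ex.sq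
        quad := ?_
        ex := ?_
        fix := ?_ }
    · intro h hh
      refine htriv h fun g b hb => hlin' h g a ha haR ?_ b hb
      have h1 := hh ⟨g • a, hgaU g⟩
      have h2 : (h • g • a) * (g • a)⁻¹ ∈ R := h1
      rw [hcm, D.equi] at h2
      exact h2
    · intro X hRX hX
      rw [eq_top_iff]
      rintro ⟨w, hw⟩ -
      have h1 : Ma ≤ (X.map U.subtype).map π := by
        rw [hMa, orb, closure_le]
        rintro _ ⟨g, -, rfl⟩
        exact ⟨g • a, ⟨⟨g • a, hgaU g⟩, hX g, rfl⟩, D.equi g a⟩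
      obtain ⟨_, ⟨u, hu, rfl⟩, e⟩ := h1 hw
      have e' : π (u : W) = π w := e
      have h2 : w * (u : W)⁻¹ ∈ R := by
        rw [← D.ker, map_mul, map_inv, e', mul_inv_cancel]
      have h3 : (⟨w * (u : W)⁻¹, hRU h2⟩ : U) ∈ X := hRX h2
      have h4 := X.mul_mem h3 hu
      have h5 : (⟨w * (u : W)⁻¹, hRU h2⟩ : U) * u = ⟨w, hw⟩ := Subtype.ext (inv_mul_cancel_right _ _)
      rwa [h5] at h4
    · rintro ⟨w, hw⟩ h1
      have h1' : ∀ t ∈ T, (t • w) * w⁻¹ ∈ R₀ := h1
      have hwV : w ∈ V := P.fixM w fun t ht => hR₀ (h1' t ht)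
      by_contra hwR
      have hwR' : w ∉ R := hwR
      obtain ⟨t, ht, e⟩ := P.full w hwV hwR' y hya
      have h2 := h1' t ht
      rw [e] at h2
      exact hy0 h2
    · exact (o2_isPGroup (fixer lam : Subgroup H)).to_le inf_le_left
    · intro n hn
      exact Subtype.ext (hn.2 a ha)
    · intro h hh n hn
      have h1 : (h • a) * a⁻¹ ∈ R := hh
      rw [hcm] at h1
      have h2 : h ∈ (fixer lam : Subgroup H) := hlin h a ha haR h1
      refine ⟨(mem_normalizer_iff.1 (le_normalizer_o2 _ h2) n).1 hn.1, fun v hv => ?_⟩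
      have h3 : h⁻¹ • v ∈ V := by
        have h4 : (h⁻¹ • v) * v⁻¹ ∈ R := by
          rw [hcm]
          exact (fixer lam : Subgroup H).inv_mem h2 _ (hlm v hv)
        have h5 := V.mul_mem (D.RV h4) hv
        rwa [inv_mul_cancel_right] at h5
      rw [mul_smul, mul_smul, hn.2 _ h3, smul_inv_smul]
    · rintro x hx z hz ⟨w, hw⟩
      refine Subtype.ext ?_
      change z • ((x • w) * w⁻¹) = (x • w) * w⁻¹
      refine P.fix _ (fun b hb => ?_) z hz
      rw [map_mul, map_inv, D.equi]
      exact P.ex.quad x hx b hb (π w)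
    · -- `|A| |C_U(A)| = |U|`
      let πU : U →* Ma := MonoidHom.mk' (fun w => ⟨π w, w.2⟩) fun v w => Subtype.ext (map_mul π _ _)
      have hsurj : Function.Surjective πU := by
        rintro ⟨m, hm⟩
        obtain ⟨w, rfl⟩ := P.surj m
        exact ⟨⟨w, hm⟩, rfl⟩
      have h1 := index_comap_of_surjective ((zm M A).subgroupOf Ma) hsurj
      have h2 : ((zm M A).subgroupOf Ma).comap πU = cv U (A : Set H) := by
        ext w
        rw [mem_comap, mem_subgroupOf, mem_cv]
        change π (w : W) ∈ zm M A ↔ _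
        rw [mem_cv]
        constructor
        · intro h3 x hx
          exact Subtype.ext (P.fix w h3 x hx)
        · intro h3 x hx
          rw [← D.equi, ← hsm, h3 x hx]
      rw [h2] at h1
      have h3 : Nat.card A = (cv U (A : Set H)).index := by rw [h1, hcardA]; rfl
      rw [h3, mul_comm]
      exact card_mul_index _
    · rintro ⟨w, hw⟩ h1 x hx
      refine Subtype.ext ?_
      change x • w = w
      refine P.fix w (fun b hb => ?_) x hx
      rw [← hcm]
      exact h1 b hb
  obtain ⟨g, hg, hg1, hgv⟩ := pre.exists_tv hML hP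
  -- on `M`
  have hgm : ∀ m ∈ Ma, ∀ n ∈ Ma, g • m = m ∨ g • n = n ∨ g • (m * n) = m * n := by
    intro m hm n hn
    obtain ⟨v, rfl⟩ := P.surj m
    obtain ⟨w, rfl⟩ := P.surj n
    have h1 := hgv ⟨v, hm⟩ ⟨w, hn⟩
    have h2 : (g • v) * v⁻¹ ∈ R ∨ (g • w) * w⁻¹ ∈ R ∨ (g • (v * w)) * (v * w)⁻¹ ∈ R := h1
    rw [hcm, hcm, hcm, map_mul] at h2
    exact h2
  have hgM : ∀ m n : M, g • m = m ∨ g • n = n ∨ g • (m * n) = m * n := by
    intro m n
    have h1 : ∀ m : M, ∃ m' ∈ Ma, ∃ c ∈ zm M A, m = m' * c := by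
      intro m
      have : m ∈ Ma ⊔ zm M A := by rw [hsup]; exact mem_top m
      obtain ⟨x, hx, c, hc, e⟩ := mem_sup.1 this
      exact ⟨x, hx, c, hc, e.symm⟩
    obtain ⟨m', hm', c, hc, rfl⟩ := h1 m
    obtain ⟨n', hn', d, hd, rfl⟩ := h1 n
    have hc' : g • c = c := mem_cv.1 hc g hg
    have hd' : g • d = d := mem_cv.1 hd g hg
    rcases hgm m' hm' n' hn' with h | h | h
    · left; rw [smul_mul', h, hc']
    · right; left; rw [smul_mul', h, hd']
    · right; right
      have e : m' * c * (n' * d) = m' * n' * (c * d) := mul_mul_mul_comm _ _ _ _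
      rw [e, smul_mul' g (m' * n'), h, smul_mul', hc', hd']
  -- two independent elements of `lam`
  obtain ⟨b₁, hb₁, b₂, hb₂, n1, n2, n3⟩ : ∃ b₁ ∈ V, ∃ b₂ ∈ V, b₁ ∉ R ∧ b₂ ∉ R ∧ b₁ * b₂ ∉ R := by
    by_contra hcon
    push Not at hcon
    have h1 : (lam : Set M) ⊆ (({1, π a} : Finset M) : Set M) := by
      rintro _ ⟨v, hv, rfl⟩
      simp only [Finset.coe_insert, Finset.coe_singleton, Set.mem_insert_iff, Set.mem_singleton_iff]
      by_cases hvR : v ∈ R
      · left; exact (D.ker v).2 hvR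
      · right
        have h2 := hcon v hv a ha hvR haR
        have h3 := (D.ker _).2 h2
        rw [map_mul] at h3
        have h4 : π a * π a = 1 := F.sq _
        exact (mul_left_inj (π a)).1 (h3.trans h4.symm)
    have h2 := Set.ncard_le_ncard h1 (Finset.finite_toSet _)
    rw [Set.ncard_coe_finset] at h2
    have h3 : (lam : Set M).ncard = Nat.card lam := rfl
    have h4 := Finset.card_le_two (a := (1 : M)) (b := π a)
    have h5 := F.four
    omega
  apply hg1
  refine htriv g fun h b hb => ?_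
  rcases hgM (h • π b₁) (h • π b₂) with e | e | e
  · exact hlin' g h b₁ hb₁ n1 e b hb
  · exact hlin' g h b₂ hb₂ n2 e b hb
  · refine hlin' g h (b₁ * b₂) (V.mul_mem hb₁ hb₂) n3 ?_ b hb
    rw [map_mul, smul_mul']
    exact e

end Cfsg.Agent.Omega.FOne.Q

end

section


/-!
# (F1) for `q ≥ 4`, the `R`-level situation at every stage (bb OMEGA #22287, helper69)

* `RL T A V R π` : `Q.Hyp` with `fixM` (which is LEMMA FIX, stage `-1`) replaced by `fixT : C_W(T) ≤ R`;
* `RLDead` : there is no such situation;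
* `RL.false_of` : with `fixM`, from `PTv` (stage `-1`).
-/

set_option autoImplicit false
set_option linter.unusedSectionVars false

namespace Cfsg.Agent.Omega.FOne.Q

open Subgroup Cfsg
open Cfsg.Agent.Omega.FOne.NOv (PTv)
open Cfsg.Agent.Omega.NO3S.FarQ (FlagK Exact zm fixer)
open Cfsg.Agent.Omega.NO3S.FarQ.FOneAbs (Dat)

universe u

/-- **The `R`-level situation**: `H` acts on `W`, centralises `R`, `π : W → M` is onto with kernel `R`; `lam = V / R` of
order `≥ 4` is fixed by the Sylow group `T`, `[v, T] = R` for `v ∈ V - R`, `C_W(T) ≤ R`; `A ≠ 1` is an exact quadratic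
subgroup of `O₂(C_H(lam))` which centralises `V`, and `C_M(A) = C_W(A) / R`. -/
structure RL {H W M : Type u} [Group H] [CommGroup W] [MulDistribMulAction H W] [CommGroup M]
    [MulDistribMulAction H M] (T A : Subgroup H) (V R : Subgroup W) (π : W →* M) : Prop where
  known : IsKGroupWith IsKnownSimple' H
  finW : Finite W
  sq : ∀ w : W, w * w = 1
  surj : Function.Surjective π
  dat : Dat T V R π
  flag : FlagK T (V.map π)
  full : ∀ v ∈ V, v ∉ R → ∀ r ∈ R, ∃ t ∈ T, (t • v) * v⁻¹ = r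
  fixT : ∀ w : W, (∀ t ∈ T, t • w = w) → w ∈ R
  ex : Exact (V.map π) A
  AT : A ≤ T
  AV : ∀ x ∈ A, ∀ v ∈ V, x • v = v
  fix : ∀ w : W, (∀ x ∈ A, x • π w = π w) → ∀ x ∈ A, x • w = w

/-- The `R`-level situation does not occur. -/
def RLDead : Prop :=
  ∀ (H W M : Type u) [Group H] [CommGroup W] [MulDistribMulAction H W] [CommGroup M] [MulDistribMulAction H M]
    (T A : Subgroup H) (V R : Subgroup W) (π : W →* M), RL T A V R π → False

variable {H W M : Type u} [Group H] [CommGroup W] [MulDistribMulAction H W] [CommGroup M]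
  [MulDistribMulAction H M]

/-- with `C_M(T) ≤ lam` -/
theorem RL.hyp {T A : Subgroup H} {V R : Subgroup W} {π : W →* M} (P : RL T A V R π)
    (hM : ∀ w : W, (∀ t ∈ T, (t • w) * w⁻¹ ∈ R) → w ∈ V) : Hyp T A V R π where
  known := P.known
  finW := P.finW
  sq := P.sq
  surj := P.surj
  dat := P.dat
  flag := P.flag
  full := P.full
  fixM := hM
  ex := P.ex
  AV := P.AV
  fix := P.fix

/-- **THEOREM Q** (stage `-1`) -/
theorem RL.false_of (hML : ML.Final.MLK.{u, u}) (hP : PTv.{u}) {T A : Subgroup H} {V R : Subgroup W} {π : W →* M}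
    (P : RL T A V R π) (hM : ∀ w : W, (∀ t ∈ T, (t • w) * w⁻¹ ∈ R) → w ∈ V) : False :=
  Q.false_of hML hP (P.hyp hM)

end Cfsg.Agent.Omega.FOne.Q

end

section


/-!
# (F1) for `q ≥ 4` over the `(R, B)`-frame: the `R`-level situation at every stage

`rl_base` : if `K_Z` centralises `V`, and `W_x` is an offender at the flag `(Z, V)`, then there is an `R`-level situation;
`hf_of_rl` : (F1) from `RLDead` and (NO) (`NoOv`), critical pair at distance `n ≥ 1`.
-/

set_option autoImplicit false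
set_option linter.unusedSectionVars false

namespace Cfsg.Agent.Omega.FOne.Q

open Subgroup Cfsg Cfsg.Agent.ZN Cfsg.Agent.MinSimple.VModule Cfsg.Agent.Omega.NO3S.PT Cfsg.Agent.Omega.NO3S.FarQ
open Cfsg.Agent.Omega.NO3S Cfsg.Agent.Omega.NO3S.PtGeom
open Cfsg.Agent.Omega.NO3S.FarQ.FOne
open Cfsg.Agent.Omega.NO3S.FarB.FOne (kx_le kx_eq Off.le_cent ph_V_mem o2_le_B img_le tt norm_V off_of_crit
  relIndex_le)
open Cfsg.Agent.Omega.NOThree.Pts (Crit)
open Cfsg.Agent.ClassTwoFusion.Quad (cv mem_cv cv_anti)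
open scoped Pointwise

universe u

variable {G : Type u} [Group G] [Finite G] {S : Sylow 2 G} {B₀ P V Z : Subgroup G} (h : PB S B₀ P V Z)
variable {H M : Type u} [Group H] [CommGroup M] [MulDistribMulAction H M] {ρ : G → H} {π : G → M}
include h

/-- **The contradiction at the base flag.** -/
theorem false_base (r : Real V Z ρ π) (hRL : RLDead.{u}) (hKH : IsKGroupWith IsKnownSimple' H)
    (hF : FlagK (tt h r) ((V.subgroupOf (ws V Z)).map (ph r)))
    (hf : kx V Z ≤ centralizer (V : Set G))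
    {B : Subgroup G} (hB : Off V V Z B)
    (hne : ¬ B ≤ centralizer (ws V Z : Set G))
    (hle : (centralizer (B : Set G)).relIndex (ws V Z) ≤ (centralizer (ws V Z : Set G)).relIndex B)
    (hNO : NoOv (H := H) ((V.subgroupOf (ws V Z)).map (ph r))) : False := by
  have hBC := Off.le_cent h hB
  set A := img r hBC with hA
  have hkc := kx_le h hf
  have hke := kx_eq h hf
  have hcard : Nat.card A = (centralizer (ws V Z : Set G)).relIndex B := by rw [hA, card_img r hBC, hke]
  have hcomm : ∀ a ∈ A, ∀ b ∈ A, a * b = b * a := by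
    intro x hx y hy
    obtain ⟨a, ha, rfl⟩ := (mem_img r).1 hx
    obtain ⟨b, hb, rfl⟩ := (mem_img r).1 hy
    rw [← r.mulρ _ (hBC ha) _ (hBC hb), ← r.mulρ _ (hBC hb) _ (hBC ha), hB.comm a ha b hb]
  have hsq : ∀ a ∈ A, a * a = 1 := by
    intro x hx
    obtain ⟨a, ha, rfl⟩ := (mem_img r).1 hx
    rw [← r.mulρ _ (hBC ha) _ (hBC ha), hB.sq a ha, rho_one r]
  have hact : ∀ a ∈ B, ∀ w ∈ ws V Z, (ρ a • π w) * (π w)⁻¹ = π (a * w * a⁻¹ * w⁻¹) := by
    intro a ha w hw
    rw [← r.act a (hBC ha) w hw, ← pi_inv r hw, ← r.mulπ _ (cent_conj r (hBC ha) hw) _ (inv_mem hw)]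
  have hcW : ∀ a ∈ B, ∀ w ∈ ws V Z, a * w * a⁻¹ * w⁻¹ ∈ ws V Z := fun a ha w hw =>
    mul_mem (cent_conj r (hBC ha) hw) (inv_mem hw)
  have hquad : ∀ a ∈ A, ∀ b ∈ A, ∀ m : M, b • ((a • m) * m⁻¹) = (a • m) * m⁻¹ := by
    intro x hx y hy m
    obtain ⟨a, ha, rfl⟩ := (mem_img r).1 hx
    obtain ⟨b, hb, rfl⟩ := (mem_img r).1 hy
    obtain ⟨w, hw, rfl⟩ := r.surjπ m
    rw [hact a ha w hw, ← r.act b (hBC hb) _ (hcW a ha w hw), hB.comm b hb _ (hB.nor a ha w hw),
      mul_inv_cancel_right]
  have hAle : A ≤ o2 (fixer ((V.subgroupOf (ws V Z)).map (ph r))) := img_le h r hB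
  have h1 := hNO A hAle hcomm hsq hquad
  have hsurj : Function.Surjective (ph r) := fun m => by
    obtain ⟨w, hw, rfl⟩ := r.surjπ m
    exact ⟨⟨w, hw⟩, rfl⟩
  have h2 := index_comap_of_surjective (zm M A) hsurj
  have h3 : (centralizer (B : Set G)).subgroupOf (ws V Z) ≤ (zm M A).comap (ph r) := by
    intro w hw
    rw [mem_comap, mem_cv]
    intro x hx
    obtain ⟨a, ha, rfl⟩ := (mem_img r).1 hx
    have h4 := hact a ha w w.2
    have h5 : a * w * a⁻¹ * (w : G)⁻¹ = 1 := by
      have h6 := mem_centralizer_iff.1 (mem_subgroupOf.1 hw) a ha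
      rw [h6, mul_inv_cancel_right, mul_inv_cancel]
    rw [h5] at h4
    have h7 : π 1 = 1 := (ph r).map_one
    rw [h7, mul_inv_eq_one] at h4
    exact h4
  have h4 : ((zm M A).comap (ph r)).index ≤ ((centralizer (B : Set G)).subgroupOf (ws V Z)).index :=
    Nat.le_of_dvd (Nat.pos_of_ne_zero index_ne_zero_of_finite) (index_dvd_of_le h3)
  have h5 : ((centralizer (B : Set G)).subgroupOf (ws V Z)).index ≤ Nat.card A := by
    rw [hcard]; exact hle
  have h6 : (zm M A).comap (ph r) ≤ (centralizer (B : Set G)).subgroupOf (ws V Z) :=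
    FarB.FOne.le_of_index_le h3 (by omega)
  have hex : Exact ((V.subgroupOf (ws V Z)).map (ph r)) A := by
    refine ⟨fun e => hne fun b hb => ?_, hAle, hcomm, hsq, hquad, by omega⟩
    have h7 : ρ b ∈ A := mem_img_of r hb
    rw [e, mem_bot] at h7
    exact hkc ((r.kerρ b (hBC hb)).1 h7)
  -- the action on `W`
  choose σ hσ1 hσ2 using r.surjρ
  let _ : CommGroup (ws V Z) :=
    { (inferInstance : Group (ws V Z)) with
      mul_comm := fun a b => Subtype.ext (mem_centralizer_iff.1 (h.Wcomm b.2) a a.2) }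
  let _ : MulDistribMulAction H (ws V Z) :=
    { smul := fun x w => ⟨σ x * w * (σ x)⁻¹, cent_conj r (hσ1 x) w.2⟩
      one_smul := fun w => Subtype.ext (by
        show σ 1 * (w : G) * (σ 1)⁻¹ = w
        rw [eq_of_rho r (hσ1 1) (one_mem _) hkc ((hσ2 1).trans (rho_one r).symm) w.2]
        group)
      mul_smul := fun x y w => Subtype.ext (by
        show σ (x * y) * (w : G) * (σ (x * y))⁻¹ = σ x * (σ y * w * (σ y)⁻¹) * (σ x)⁻¹
        rw [eq_of_rho r (hσ1 (x * y)) (mul_mem (hσ1 x) (hσ1 y)) hkc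
          (by rw [hσ2, r.mulρ _ (hσ1 x) _ (hσ1 y), hσ2, hσ2]) w.2]
        group)
      smul_mul := fun x w w' => Subtype.ext (by
        show σ x * ((w : G) * w') * (σ x)⁻¹ = σ x * w * (σ x)⁻¹ * (σ x * w' * (σ x)⁻¹)
        group)
      smul_one := fun x => Subtype.ext (by
        show σ x * (1 : G) * (σ x)⁻¹ = 1
        group) }
  have hsm : ∀ a ∈ centralizer (Z : Set G), ∀ w : ws V Z, ((ρ a • w : ws V Z) : G) = a * w * a⁻¹ := by
    intro a ha w
    show σ (ρ a) * (w : G) * (σ (ρ a))⁻¹ = a * w * a⁻¹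
    exact eq_of_rho r (hσ1 _) ha hkc (hσ2 _) w.2
  have D : FOneAbs.Dat (tt h r) (V.subgroupOf (ws V Z)) (Z.subgroupOf (ws V Z)) (ph r) := by
    refine ⟨FarB.FOne.finite_H r, fun w => r.kerπ w w.2, ?_, ?_, ?_, ?_, ?_, ?_, ?_⟩
    · intro x w
      show π (σ x * w * (σ x)⁻¹) = x • π w
      rw [r.act _ (hσ1 x) w w.2, hσ2]
    · intro x w hw
      refine Subtype.ext ?_
      show σ x * (w : G) * (σ x)⁻¹ = w
      rw [← mem_centralizer_iff.1 (hσ1 x) w hw, mul_inv_cancel_right]
    · intro t ht v hv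
      obtain ⟨s, hs, rfl⟩ := (mem_img r).1 ht
      rw [mem_subgroupOf]
      show ((ρ s • v : ws V Z) : G) * (v : G)⁻¹ ∈ Z
      rw [hsm s (h.B_le hs)]
      exact h.act s hs v hv
    · intro w hw
      exact h.ZV hw
    · intro t ht v hv hvZ e u hu
      obtain ⟨s, hs, rfl⟩ := (mem_img r).1 ht
      have e1 := congrArg Subtype.val e
      rw [hsm s (h.B_le hs)] at e1
      refine Subtype.ext ?_
      rw [hsm s (h.B_le hs)]
      have e2 := h.free s hs v hv (fun e => hvZ e) (mul_inv_eq_iff_eq_mul.1 e1) u hu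
      rw [e2, mul_inv_cancel_right]
    · obtain ⟨Y, hY, hYV, hYne⟩ := h.exists_second h.isCj_self h.ZV
      obtain ⟨v, hv, hv1⟩ := h.pt_ne_bot hY
      have hvZ : v ∉ Z := fun e => hYne (h.pts_eq hY h.isCj_self hv e hv1)
      obtain ⟨z, hz, hz1⟩ := h.pt_ne_bot h.isCj_self
      obtain ⟨s, hs, hsz⟩ := h.full v (hYV hv) hvZ z hz
      refine ⟨ρ s, mem_img_of r hs, ⟨v, h.V_le_ws h.ZV (hYV hv)⟩, hYV hv, fun e => hz1 ?_⟩
      have e1 := congrArg Subtype.val e
      rw [hsm s (h.B_le hs)] at e1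
      rw [← hsz, mul_inv_eq_one]
      exact e1
    · intro x hx v hv
      have h7 := norm_V h r hf (hσ1 x) (by rw [hσ2]; exact hx)
      rw [mem_subgroupOf]
      show σ x * (v : G) * (σ x)⁻¹ ∈ V
      exact (mem_normalizer_iff.1 h7 v).1 hv
  have hAT : A ≤ tt h r := by
    intro x hx
    obtain ⟨b, hb, rfl⟩ := (mem_img r).1 hx
    exact mem_img_of r (o2_le_B h (hB.le hb))
  refine hRL H (ws V Z) M (tt h r) A (V.subgroupOf (ws V Z)) (Z.subgroupOf (ws V Z)) (ph r)
    { known := hKH
      finW := inferInstance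
      sq := fun w => Subtype.ext (h.ws_sq w w.2)
      surj := hsurj
      dat := D
      flag := hF
      full := ?_
      fixT := ?_
      ex := hex
      AT := hAT
      AV := ?_
      fix := ?_ }
  · intro v hv hvR z hz
    obtain ⟨s, hs, hsz⟩ := h.full v hv (fun e => hvR e) z hz
    refine ⟨ρ s, mem_img_of r hs, Subtype.ext ?_⟩
    show ((ρ s • v : ws V Z) : G) * (v : G)⁻¹ = z
    rw [hsm s (h.B_le hs)]
    exact hsz
  · intro w hw
    refine h.omega w (h.ws_le_B w.2) (h.ws_sq w w.2) fun s hs => ?_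
    have e1 := congrArg Subtype.val (hw (ρ s) (mem_img_of r hs))
    rw [hsm s (h.B_le hs)] at e1
    exact mul_inv_eq_iff_eq_mul.1 e1
  · intro x hx v hv
    obtain ⟨b, hb, rfl⟩ := (mem_img r).1 hx
    refine Subtype.ext ?_
    rw [hsm b (hBC hb)]
    have h7 : b ∈ centralizer (V : Set G) := ZN.o2_le _ (hB.le hb)
    rw [← mem_centralizer_iff.1 h7 v hv, mul_inv_cancel_right]
  · intro w hw x hx
    obtain ⟨b, hb, rfl⟩ := (mem_img r).1 hx
    have h7 : w ∈ (zm M A).comap (ph r) := by
      rw [mem_comap, mem_cv]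
      exact hw
    have h8 := mem_centralizer_iff.1 (mem_subgroupOf.1 (h6 h7)) b hb
    refine Subtype.ext ?_
    rw [hsm b (hBC hb), h8, mul_inv_cancel_right]

/-- **(F1) for `q ≥ 4`**, from the `R`-level theorem, at every stage. -/
theorem hf_of_rl (hRL : RLDead.{u}) (hq : 4 ≤ Nat.card Z) {n : ℕ} (hn : 1 ≤ n) {x y : Pt Z}
    (hc : Crit (PtGeom.inc (Z := Z) (V := V)) (fun x : Pt Z => ws V x.sg) n x y)
    (hNO : KNO.{u} (fun H _ => Img (centralizer (Z : Set G)) H))
    (hKn : ∀ (H : Type u) [Group H], Img (centralizer (Z : Set G)) H → IsKGroupWith IsKnownSimple' H) :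
    ¬ kx V Z ≤ centralizer (V : Set G) := by
  intro hf
  obtain ⟨H, M, iH, iM, iA, ρ, π, r⟩ := FarB.exists_real h
  have hI : Img (centralizer (Z : Set G)) H := FarQ.img_of_real r
  have hF : FlagK (tt h r) ((V.subgroupOf (ws V Z)).map (ph r)) :=
    FarB.flagK_of h r hq (fun x => mem_img r) fun m => ph_V_mem h r
  have hNo : NoOv (H := H) ((V.subgroupOf (ws V Z)).map (ph r)) := hNO H M _ _ hI hF
  obtain ⟨g, hg, hB⟩ := off_of_crit h hn hc
  obtain ⟨g', hg', hB'⟩ := off_of_crit h hn hc.symm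
  have hb := hB.conj g⁻¹
  have hb' := hB'.conj g'⁻¹
  rw [cj_cj, cj_cj, inv_mul_cancel, cj_one, cj_one] at hb hb'
  have h1 := relIndex_le h r hf hb' hNo
  -- `|W_y : C(W_x)| ≤ |W_x : C(W_y)|`
  have e1 : cj g (cj g⁻¹ (ws V x.sg)) = ws V x.sg := by rw [cj_cj, mul_inv_cancel, cj_one]
  have e2 : cj g' (cj g'⁻¹ (ws V y.sg)) = ws V y.sg := by rw [cj_cj, mul_inv_cancel, cj_one]
  have e3 : ws V y.sg = cj g (ws V Z) := by rw [hg, ws_cj]
  have e4 : ws V x.sg = cj g' (ws V Z) := by rw [hg', ws_cj]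
  rw [← FarB.FOne.cent_relIndex_conj g' (ws V Z), ← FarB.FOne.cent_relIndex_conj g' (cj g'⁻¹ (ws V y.sg)), e2, ← e4] at h1
  refine false_base h r hRL (hKn H hI) hF hf hb ?_ ?_ hNo
  · intro hcon
    apply hc.ne
    intro a ha b hbm
    have h2 : ws V x.sg ≤ centralizer (ws V y.sg : Set G) := by
      rw [← e1, e3, ← cj_centralizer, cj_le_cj]
      exact hcon
    exact (mem_centralizer_iff.1 (h2 ha) b hbm).symm
  · rw [← FarB.FOne.cent_relIndex_conj g (ws V Z), ← FarB.FOne.cent_relIndex_conj g (cj g⁻¹ (ws V x.sg)), e1, ← e3]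
    exact h1

end Cfsg.Agent.Omega.FOne.Q

end
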